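import Cfsg.Agent.ChevalleyStructure.E6AdCubic

/-!
# The trilinear form on the 27-dimensional module: the rank of `tri v` is at least 10
-/

set_option autoImplicit false

namespace Cfsg.Agent.H190.E6

open Cfsg.Lie Cfsg.Agent.ChevalleyStructure.E6Form.Cubic
open scoped Matrix

universe u

variable {F : Type u} [Field F]

theorem tri_add_left (x x' y z : I27 → F) : tri (x + x') y z = tri x y z + tri x' y z := by
  rw [tri_formula, tri_formula, tri_formula, ← Finset.sum_add_distrib]
  refine Finset.sum_congr rfl fun a _ => ?_
  rw [← Finset.sum_add_distrib]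
  refine Finset.sum_congr rfl fun b _ => ?_
  split
  · rw [Pi.add_apply]; ring
  · rw [add_zero]

theorem tri_add_mid (x y y' z : I27 → F) : tri x (y + y') z = tri x y z + tri x y' z := by
  rw [tri_comm12, tri_add_left, tri_comm12 y, tri_comm12 y']

theorem tri_add_right (x y z z' : I27 → F) : tri x y (z + z') = tri x y z + tri x y z' := by
  rw [tri_comm23, tri_add_mid, tri_comm23 x z, tri_comm23 x z']

theorem tri_smul_right (s : F) (x y z : I27 → F) : tri x y (s • z) = s * tri x y z := by
  rw [tri_comm23, tri_smul_mid, tri_comm23]

/-- the trilinear form -/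
noncomputable def triL (F : Type u) [Field F] : (I27 → F) →ₗ[F] (I27 → F) →ₗ[F] (I27 → F) →ₗ[F] F :=
  LinearMap.mk₂ F (fun x y =>
    { toFun := fun z => tri x y z
      map_add' := fun z z' => tri_add_right x y z z'
      map_smul' := fun s z => tri_smul_right s x y z })
    (fun x x' y => LinearMap.ext fun z => tri_add_left x x' y z)
    (fun s x y => LinearMap.ext fun z => tri_smul_left s x y z)
    (fun x y y' => LinearMap.ext fun z => tri_add_mid x y y' z)
    (fun s x y => LinearMap.ext fun z => tri_smul_mid s x y z)

theorem triL_apply (x y z : I27 → F) : triL F x y z = tri x y z := rfl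

theorem no_triangle (l a b : I27) (ha : nc l a = true) (hb : nc l b = true) (hab : nc a b = true) : b = th l a := by
  have h := forall_wts (p := fun l => wts.all fun a => wts.all fun b => !(nc l a && nc l b && nc a b) || (b == th l a))
    (by decide +kernel) l
  have h' := forall_wts (forall_wts h a) b
  simpa [ha, hb, hab] using h'

theorem th_back (l a : I27) (ha : nc l a = true) : nc a (th l a) = true ∧ th a (th l a) = l ∧ nc l (th l a) = true := by
  have h := forall_wts (p := fun l => wts.all fun a => !(nc l a) || (nc a (th l a) && (th a (th l a) == l) &&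
    nc l (th l a))) (by decide +kernel) l
  have h' := forall_wts h a
  simp only [ha, Bool.not_true, Bool.false_or, Bool.and_eq_true, beq_iff_eq] at h'
  exact ⟨h'.1.1, h'.1.2, h'.2⟩

theorem th_inj (l a b : I27) (ha : nc l a = true) (hb : nc l b = true) (h : th l a = th l b) : a = b := by
  have e1 := ((th_facts l a).1 ha).2.2.1
  have e2 := ((th_facts l b).1 hb).2.2.1
  rw [← e1, ← e2, h]

theorem card_nc (l : I27) : Fintype.card {a : I27 // nc l a = true} = 10 := by
  revert l
  decide +kernel

/-- the rank of `tri v` is at least 10 -/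
theorem rank_ge {v : I27 → F} (hv : v ≠ 0) : 10 ≤ Module.finrank F (LinearMap.range (triL F v)) := by
  obtain ⟨l, hl⟩ := Function.ne_iff.1 hv
  let w : {a : I27 // nc l a = true} → ((I27 → F) →ₗ[F] F) := fun a => triL F v (e F a)
  have key : ∀ a b : {a : I27 // nc l a = true}, triL F v (e F a) (e F (th l b)) =
      if a = b then ((sg (a : I27) (th l a) : ℤ) : F) * v l else 0 := by
    intro a b
    have h1 : triL F v (e F a) (e F (th l b)) = tri (e F a) (e F (th l b)) v := by
      rw [triL_apply, tri_comm12, tri_comm23]
    rw [h1, tri_e_e]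
    by_cases hab : a = b
    · subst hab
      rw [if_pos rfl, if_pos (th_back l a a.2).1, (th_back l a a.2).2.1]
    · rw [if_neg hab, if_neg]
      intro h
      have h2 := no_triangle l a (th l b) a.2 (th_back l b b.2).2.2 h
      exact hab (Subtype.ext (th_inj l b a b.2 a.2 h2)).symm
  have hlin : LinearIndependent F w := by
    rw [Fintype.linearIndependent_iff]
    intro c hc b
    have h1 := congrArg (fun φ : (I27 → F) →ₗ[F] F => φ (e F (th l b))) hc
    simp only [LinearMap.sum_apply, LinearMap.smul_apply, smul_eq_mul, w, key, LinearMap.zero_apply] at h1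
    rw [Finset.sum_eq_single b] at h1
    · rw [if_pos rfl] at h1
      rcases mul_eq_zero.1 h1 with h | h
      · exact h
      · exact absurd h (mul_ne_zero (sg_ne_zero (th_back l b b.2).1) hl)
    · intro a _ hab
      rw [if_neg hab, mul_zero]
    · intro h; exact absurd (Finset.mem_univ _) h
  have h1 := finrank_span_eq_card hlin
  rw [card_nc] at h1
  rw [← h1]
  apply Submodule.finrank_mono
  rw [Submodule.span_le]
  rintro _ ⟨a, rfl⟩
  exact ⟨_, rfl⟩

end Cfsg.Agent.H190.E6
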