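import Mathlib

/-!
# Joint eigenspaces of commuting endomorphisms of finite order
-/

set_option autoImplicit false

namespace Cfsg.Agent.H190.E6

open Module

section
variable {k : Type*} [Field k] {V : Type*} [AddCommGroup V] [Module k V]
  {ι : Type*} {n : ℕ}

/-- joint eigenspace -/
def J (ζ : k) (T : ι → Module.End k V) (c : ι → ZMod n) : Submodule k V := ⨅ i, (T i).eigenspace (ζ ^ (c i).val)

theorem mem_J {ζ : k} {T : ι → Module.End k V} {c : ι → ZMod n} {v : V} :
    v ∈ J ζ T c ↔ ∀ i, T i v = ζ ^ (c i).val • v := by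
  simp [J, Submodule.mem_iInf]

theorem isSemisimple_of_pow (hn : (n : k) ≠ 0) {T : Module.End k V} (hT : T ^ n = 1) : T.IsSemisimple := by
  refine Module.End.isSemisimple_of_squarefree_aeval_eq_zero (p := Polynomial.X ^ n - Polynomial.C 1) ?_ ?_
  · exact (Polynomial.separable_X_pow_sub_C (1 : k) hn one_ne_zero).squarefree
  · simp [hT]

variable [FiniteDimensional k V]

theorem maxGen_eq (hn : (n : k) ≠ 0) {T : Module.End k V} (hT : T ^ n = 1) (μ : k) :
    T.maxGenEigenspace μ = T.eigenspace μ :=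
  (isSemisimple_of_pow hn hT).isFinitelySemisimple.maxGenEigenspace_eq_eigenspace μ

variable [NeZero n] {ζ : k} {T : ι → Module.End k V}

theorem indep_J (hζ : IsPrimitiveRoot ζ n) (hn : (n : k) ≠ 0) (hT : ∀ i, T i ^ n = 1)
    (hc : ∀ i j, Commute (T i) (T j)) : iSupIndep (J (n := n) ζ T) := by
  have h1 := Module.End.independent_iInf_maxGenEigenspace_of_forall_mapsTo T
    (fun i j φ => Module.End.mapsTo_maxGenEigenspace_of_comm (hc j i) φ)
  have h2 : Function.Injective (fun c : ι → ZMod n => fun i => ζ ^ (c i).val) := by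
    intro c d h
    funext i
    have h3 := hζ.pow_inj (ZMod.val_lt (c i)) (ZMod.val_lt (d i)) (congrFun h i)
    exact ZMod.val_injective n h3
  have h3 := h1.comp h2
  have h4 : ((fun χ : ι → k => ⨅ i, (T i).maxGenEigenspace (χ i)) ∘ fun c : ι → ZMod n => fun i => ζ ^ (c i).val) =
      J (n := n) ζ T := by
    funext c
    simp only [Function.comp, J]
    exact iInf_congr fun i => maxGen_eq hn (hT i) _
  rwa [h4] at h3

theorem iSup_J [IsAlgClosed k] (hζ : IsPrimitiveRoot ζ n) (hn : (n : k) ≠ 0) (hT : ∀ i, T i ^ n = 1)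
    (hc : ∀ i j, Commute (T i) (T j)) : ⨆ c, J (n := n) ζ T c = ⊤ := by
  have h1 := Module.End.iSup_iInf_maxGenEigenspace_eq_top_of_iSup_maxGenEigenspace_eq_top_of_commute T
    (fun i j _ => hc i j) (fun i => Module.End.iSup_maxGenEigenspace_eq_top _)
  rw [eq_top_iff, ← h1]
  refine iSup_le fun χ => ?_
  by_cases hbot : (⨅ i, (T i).maxGenEigenspace (χ i)) = ⊥
  · rw [hbot]; exact bot_le
  obtain ⟨v, hv, hv0⟩ := Submodule.exists_mem_ne_zero_of_ne_bot hbot
  have h2 : ∀ i, T i v = χ i • v := by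
    intro i
    have h3 := (Submodule.mem_iInf _).1 hv i
    rw [maxGen_eq hn (hT i), Module.End.mem_eigenspace_iff] at h3
    exact h3
  have h3 : ∀ i, χ i ^ n = 1 := by
    intro i
    have h4 : ∀ m : ℕ, (T i ^ m) v = χ i ^ m • v := by
      intro m
      induction m with
      | zero => simp
      | succ m ih => rw [pow_succ', Module.End.mul_apply, ih, map_smul, h2, smul_smul, pow_succ]
    have h5 := h4 n
    rw [hT i, Module.End.one_apply] at h5
    have h6 : (1 - χ i ^ n) • v = 0 := by rw [sub_smul, one_smul, ← h5, sub_self]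
    rcases smul_eq_zero.1 h6 with h | h
    · exact (sub_eq_zero.1 h).symm
    · exact absurd h hv0
  have h4 : ∀ i, ∃ c : ZMod n, χ i = ζ ^ c.val := by
    intro i
    obtain ⟨j, hj, h5⟩ := hζ.eq_pow_of_pow_eq_one (h3 i)
    refine ⟨(j : ZMod n), ?_⟩
    rw [ZMod.val_natCast, Nat.mod_eq_of_lt hj, h5]
  choose c hc' using h4
  refine le_trans ?_ (le_iSup _ c)
  rw [J]
  refine le_of_eq (iInf_congr fun i => ?_)
  rw [maxGen_eq hn (hT i), hc' i]

variable [IsAlgClosed k]

theorem isInternal_J [DecidableEq (ι → ZMod n)] (hζ : IsPrimitiveRoot ζ n) (hn : (n : k) ≠ 0) (hT : ∀ i, T i ^ n = 1)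
    (hc : ∀ i j, Commute (T i) (T j)) : DirectSum.IsInternal (J (n := n) ζ T) :=
  (DirectSum.isInternal_submodule_iff_iSupIndep_and_iSup_eq_top _).2 ⟨indep_J hζ hn hT hc, iSup_J hζ hn hT hc⟩

theorem sum_J [Fintype (ι → ZMod n)] (hζ : IsPrimitiveRoot ζ n) (hn : (n : k) ≠ 0) (hT : ∀ i, T i ^ n = 1)
    (hc : ∀ i j, Commute (T i) (T j)) : ∑ c, finrank k (J (n := n) ζ T c) = finrank k V := by
  classical
  have h := isInternal_J hζ hn hT hc
  have e := LinearEquiv.ofBijective (DirectSum.coeLinearMap (J (n := n) ζ T)) h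
  rw [← e.finrank_eq, Module.finrank_directSum]

omit [NeZero n] [FiniteDimensional k V] [IsAlgClosed k] in
theorem finrank_sup_le {W C : Type*} [AddCommGroup W] [Module k W] [FiniteDimensional k W] (s : Finset C)
    (N : C → Submodule k W) : finrank k (s.sup N : Submodule k W) ≤ ∑ c ∈ s, finrank k (N c) := by
  classical
  induction s using Finset.induction_on with
  | empty => simp
  | insert c s hc ih =>
    rw [Finset.sup_insert, Finset.sum_insert hc]
    exact (Submodule.finrank_add_le_finrank_add_finrank _ _).trans (Nat.add_le_add_left ih _)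

/-- the rank of a bilinear map for which each joint eigenspace is paired with only one joint eigenspace -/
theorem rank_le [Fintype (ι → ZMod n)] (hζ : IsPrimitiveRoot ζ n) (hn : (n : k) ≠ 0) (hT : ∀ i, T i ^ n = 1)
    (hc : ∀ i j, Commute (T i) (T j)) (f : V →ₗ[k] V →ₗ[k] k) (τ : (ι → ZMod n) → (ι → ZMod n))
    (h : ∀ c d, d ≠ τ c → ∀ x ∈ J ζ T c, ∀ y ∈ J ζ T d, f x y = 0) :
    finrank k (LinearMap.range f) ≤ ∑ c, min (finrank k (J ζ T c)) (finrank k (J ζ T (τ c))) := by
  classical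
  have h1 : LinearMap.range f = Finset.univ.sup fun c => (J (n := n) ζ T c).map f := by
    rw [Finset.sup_univ_eq_iSup, ← Submodule.map_iSup, iSup_J hζ hn hT hc, Submodule.map_top]
  rw [h1]
  refine (finrank_sup_le _ _).trans (Finset.sum_le_sum fun c _ => le_min (Submodule.finrank_map_le _ _) ?_)
  -- restriction to the partner
  let r : ((J (n := n) ζ T c).map f) →ₗ[k] (J ζ T (τ c) →ₗ[k] k) :=
    { toFun := fun φ => (φ : V →ₗ[k] k).domRestrict _
      map_add' := fun _ _ => rfl
      map_smul' := fun _ _ => rfl }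
  have hr : Function.Injective r := by
    rw [injective_iff_map_eq_zero]
    rintro ⟨φ, x, hx, rfl⟩ h0
    apply Subtype.ext
    have h2 : ∀ d, J (n := n) ζ T d ≤ LinearMap.ker (f x) := by
      intro d y hy
      rw [LinearMap.mem_ker]
      by_cases hd : d = τ c
      · subst hd
        exact congrFun (congrArg (fun g : (J ζ T (τ c) →ₗ[k] k) => (g : J ζ T (τ c) → k)) h0) ⟨y, hy⟩
      · exact h c d hd x hx y hy
    have h3 := iSup_le h2
    rw [iSup_J hζ hn hT hc, top_le_iff, LinearMap.ker_eq_top] at h3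
    exact h3
  have h4 := LinearMap.finrank_le_finrank_of_injective hr
  rwa [Module.finrank_linearMap, Module.finrank_self, mul_one] at h4

/-- joint eigenspaces of the weights `v, x, y` with sum different from `0` are orthogonal for an invariant
trilinear form -/
theorem tri_eq_zero {B : V →ₗ[k] V →ₗ[k] V →ₗ[k] k} (hζ : IsPrimitiveRoot ζ n)
    (hB : ∀ i v x y, B (T i v) (T i x) (T i y) = B v x y) {a c d : ι → ZMod n} (h : a + c + d ≠ 0) {v x y : V}
    (hv : v ∈ J ζ T a) (hx : x ∈ J ζ T c) (hy : y ∈ J ζ T d) : B v x y = 0 := by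
  obtain ⟨i, hi⟩ := Function.ne_iff.1 h
  have h1 := hB i v x y
  rw [mem_J.1 hv i, mem_J.1 hx i, mem_J.1 hy i] at h1
  simp only [map_smul, LinearMap.smul_apply, smul_eq_mul, ← mul_assoc] at h1
  by_contra hne
  have h2 : ζ ^ (d i).val * ζ ^ (c i).val * ζ ^ (a i).val = 1 := by
    apply mul_right_cancel₀ hne
    rw [one_mul]
    convert h1 using 2
  apply hi
  rw [← pow_add, ← pow_add, hζ.pow_eq_one_iff_dvd, ← ZMod.natCast_eq_zero_iff] at h2
  push_cast [ZMod.natCast_zmod_val] at h2
  rw [Pi.add_apply, Pi.add_apply, Pi.zero_apply, ← h2]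
  ring

/-- the rank bound for an invariant trilinear form -/
theorem ten_le [Fintype (ι → ZMod n)] {B : V →ₗ[k] V →ₗ[k] V →ₗ[k] k} {m : ℕ}
    (hR : ∀ v, v ≠ 0 → m ≤ finrank k (LinearMap.range (B v))) (hζ : IsPrimitiveRoot ζ n) (hn : (n : k) ≠ 0)
    (hT : ∀ i, T i ^ n = 1) (hc : ∀ i j, Commute (T i) (T j))
    (hB : ∀ i v x y, B (T i v) (T i x) (T i y) = B v x y) {a : ι → ZMod n} (ha : J ζ T a ≠ ⊥) :
    m ≤ ∑ c, min (finrank k (J ζ T c)) (finrank k (J ζ T (- a - c))) := by
  obtain ⟨v, hv, hv0⟩ := Submodule.exists_mem_ne_zero_of_ne_bot ha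
  refine (hR v hv0).trans (rank_le hζ hn hT hc (B v) (fun c => - a - c) ?_)
  intro c d hd x hx y hy
  refine tri_eq_zero hζ hB ?_ hv hx hy
  intro h
  apply hd
  have : d = - a - c + (a + c + d) := by ring
  rw [this, h, add_zero]

end

end Cfsg.Agent.H190.E6
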