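import Cfsg.Agent.H190.E6.Cyc

/-!
# Counting pairs of weights with a given sum
-/

set_option autoImplicit false

namespace Cfsg.Agent.H190.E6

open Finset

section
variable {M : Type*} [AddCommGroup M]

/-- the cycle of `c` -/
def O (S : M ≃+ M) (c : M) (i : ZMod 11) : M := S^[i.val] c

theorem O_zero (S : M ≃+ M) (c : M) : O S c 0 = c := rfl

theorem iter_add (S : M ≃+ M) (j : ℕ) (x y : M) : S^[j] (x + y) = S^[j] x + S^[j] y := by
  induction j with
  | zero => rfl
  | succ j ih => rw [Function.iterate_succ_apply', Function.iterate_succ_apply', Function.iterate_succ_apply', ih,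
      map_add]

theorem iter_zero (S : M ≃+ M) (j : ℕ) : S^[j] (0 : M) = 0 := by
  induction j with
  | zero => rfl
  | succ j ih => rw [Function.iterate_succ_apply', ih, map_zero]

theorem iter_mod (S : M ≃+ M) {c : M} (h : S^[11] c = c) (j : ℕ) : S^[j % 11] c = S^[j] c := by
  conv_rhs => rw [← Nat.mod_add_div j 11, Function.iterate_add_apply, Function.iterate_mul]
  congr 1
  exact (Function.iterate_fixed h _).symm

theorem O_add (S : M ≃+ M) {c : M} (h : S^[11] c = c) (i j : ZMod 11) : O S c (i + j) = S^[i.val] (O S c j) := by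
  unfold O
  rw [← Function.iterate_add_apply, ZMod.val_add, iter_mod S h]

theorem O_eleven (S : M ≃+ M) {c : M} (h : S^[11] c = c) (i : ZMod 11) : S^[11] (O S c i) = O S c i := by
  unfold O
  rw [← Function.iterate_add_apply, add_comm, Function.iterate_add_apply, h]

/-- relations of length 4 in a cycle -/
theorem rel4 {l : ℕ} (hl : l = 2 ∨ l = 3) (hM : ∀ x : M, l • x = 0) (S : M ≃+ M) {c : M} (h : S^[11] c = c)
    (hc : S c ≠ c) {a b d e : ZMod 11} (hr : O S c a + O S c b = O S c d + O S c e) (h0 : O S c a + O S c b ≠ 0) :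
    (d = a ∧ e = b) ∨ (e = a ∧ d = b) := by
  have key : ∀ j, O S c (j + a) + O S c (j + b) = O S c (j + d) + O S c (j + e) := by
    intro j
    rw [O_add S h, O_add S h, O_add S h, O_add S h, ← iter_add, ← iter_add, hr]
  have hC : O S c (0 + a) ≠ O S c (1 + a) := by
    rw [O_add S h 0, O_add S h 1]
    intro h1
    have h2 : O S c a = S (O S c a) := h1
    apply hc
    have h3 : S^[a.val] c = S (S^[a.val] c) := h2
    have h4 : S (S^[a.val] c) = S^[a.val] (S c) := by
      rw [← Function.iterate_succ_apply' (⇑S) a.val c, Function.iterate_succ_apply]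
    rw [h4] at h3
    exact ((S.injective.iterate a.val) h3).symm
  have h1 := four hl hM (C := fun i => O S c (i + a)) hC (b := b - a) (c := d - a) (d := e - a) ?_ ?_
  · rcases h1 with ⟨h1, h2⟩ | ⟨h1, h2⟩
    · exact Or.inl ⟨sub_eq_zero.1 h1, sub_left_injective h2⟩
    · exact Or.inr ⟨sub_eq_zero.1 h1, sub_left_injective h2⟩
  · intro j
    have := key j
    simp only [add_assoc, sub_add_cancel]
    exact this
  · simp only [zero_add, sub_add_cancel]
    exact h0

/-- relations of length 3 in a cycle -/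
theorem rel3 {l : ℕ} (hl : l = 2 ∨ l = 3) (hM : ∀ x : M, l • x = 0) (S : M ≃+ M) {c : M} (h : S^[11] c = c)
    (hc : S c ≠ c) {i j : ZMod 11} (hr : c + O S c i + O S c j = 0) : i = 0 ∧ j = 0 := by
  have hC : O S c 0 ≠ O S c 1 := fun h1 => hc h1.symm
  refine three hl hM (C := O S c) hC ?_
  intro t
  rw [O_add S h, O_add S h]
  have : O S c t = S^[t.val] c := rfl
  rw [this, ← iter_add, ← iter_add, hr, iter_zero]

theorem O_inj (S : M ≃+ M) {c : M} (h : S^[11] c = c) (hc : S c ≠ c) : Function.Injective (O S c) := by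
  intro i j hij
  by_contra hne
  -- `S ^ (j - i)` fixes `c`, hence so does `S`
  have h1 : ∀ i j : ZMod 11, O S c i = O S c j → O S c (j - i) = c := by
    intro i j hij
    have h2 := congrArg (S^[(-i : ZMod 11).val]) hij
    rw [← O_add S h, ← O_add S h, neg_add_cancel, O_zero, neg_add_eq_sub] at h2
    exact h2.symm
  have h2 := h1 i j hij
  have hu : j - i ≠ 0 := sub_ne_zero.2 (Ne.symm hne)
  have h3 : ∀ m : ℕ, O S c (m * (j - i)) = c := by
    intro m
    induction m with
    | zero => simp [O_zero]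
    | succ m ih =>
      rw [Nat.cast_succ, add_mul, one_mul, O_add S h, h2]
      exact ih
  obtain ⟨m, hm⟩ : ∃ m : ℕ, (m : ZMod 11) * (j - i) = 1 := by
    have hp : Fact (Nat.Prime 11) := ⟨by norm_num⟩
    refine ⟨((j - i)⁻¹ : ZMod 11).val, ?_⟩
    rw [ZMod.natCast_zmod_val, inv_mul_cancel₀ hu]
  have h4 := h3 m
  rw [hm] at h4
  exact hc h4

end

section
variable {M : Type*} [AddCommGroup M] [Fintype M] [DecidableEq M]

/-- the set of points of a cycle -/
def cyc (S : M ≃+ M) (c : M) : Finset M := univ.image (O S c)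

omit [Fintype M] in
theorem mem_cyc {S : M ≃+ M} {c x : M} : x ∈ cyc S c ↔ ∃ i, O S c i = x := by simp [cyc]

omit [Fintype M] in
theorem sum_cyc {S : M ≃+ M} {c : M} (h : S^[11] c = c) (hc : S c ≠ c) {n : M → ℕ} (hn : ∀ c, n (S c) = n c) :
    ∑ x ∈ cyc S c, n x = 11 * n c := by
  rw [cyc, sum_image (fun i _ j _ hij => O_inj S h hc hij)]
  have h1 : ∀ i, n (O S c i) = n c := by
    intro i
    unfold O
    induction i.val with
    | zero => rfl
    | succ j ih => rw [Function.iterate_succ_apply', hn, ih]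
  simp [h1]

omit [Fintype M] [DecidableEq M] in
theorem n_iter {S : M ≃+ M} {n : M → ℕ} (hn : ∀ c, n (S c) = n c) (j : ℕ) (c : M) : n (S^[j] c) = n c := by
  induction j with
  | zero => rfl
  | succ j ih => rw [Function.iterate_succ_apply', hn, ih]

/-- the cycles of the nonzero weights have length 11 -/
theorem eleven_of {n : M → ℕ} (hsum : ∑ c, n c = 27) {S : M ≃+ M} (hn : ∀ c, n (S c) = n c)
    (hS : ∃ a, ∀ c, S^[11 ^ a] c = c) {c : M} (hc : n c ≠ 0) (hSc : S c ≠ c) : S^[11] c = c := by
  obtain ⟨a, ha⟩ := hS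
  have h1 : Function.minimalPeriod S c ∣ 11 ^ a := Function.IsPeriodicPt.minimalPeriod_dvd (ha c)
  obtain ⟨j, -, hj⟩ := (Nat.dvd_prime_pow (by norm_num)).1 h1
  have hj0 : j ≠ 0 := by
    rintro rfl
    rw [pow_zero] at hj
    exact hSc (Function.minimalPeriod_eq_one_iff_isFixedPt.1 hj)
  have h2 : Function.minimalPeriod S c ≤ 27 := by
    have h3 : ∑ x ∈ (range (Function.minimalPeriod S c)).image (fun j => S^[j] c), n x ≤ 27 := by
      rw [← hsum]
      exact sum_le_sum_of_subset (subset_univ _)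
    rw [sum_image] at h3
    · simp only [n_iter hn] at h3
      rw [sum_const, card_range, smul_eq_mul] at h3
      nlinarith [Nat.pos_of_ne_zero hc]
    · intro x hx y hy hxy
      have hx' : x < Function.minimalPeriod S c := by simpa using hx
      have hy' : y < Function.minimalPeriod S c := by simpa using hy
      exact Function.iterate_injOn_Iio_minimalPeriod hx' hy' hxy
  have hj1 : j = 1 := by
    by_contra hne
    have : 2 ≤ j := by omega
    have h3 : 11 ^ 2 ≤ 11 ^ j := Nat.pow_le_pow_right (by norm_num) this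
    omega
  rw [hj1, pow_one] at hj
  have := Function.isPeriodicPt_minimalPeriod S c
  rw [hj] at this
  exact this

set_option maxHeartbeats 2000000 in
/-- **The count.** -/
theorem lines {l : ℕ} (hl : l = 2 ∨ l = 3) (hM : ∀ x : M, l • x = 0) {n : M → ℕ} (hsum : ∑ c, n c = 27) {S : M ≃+ M}
    (hn : ∀ c, n (S c) = n c) (hS : ∃ a, ∀ c, S^[11 ^ a] c = c) (hfix : ∀ c, n c ≠ 0 → S c = c → c = 0) {χ : M}
    (hχ : n χ ≠ 0) (hχ0 : χ ≠ 0) : ∑ c, min (n c) (n (- χ - c)) ≤ 9 := by
  have hSne : ∀ c, n c ≠ 0 → c ≠ 0 → S c ≠ c := fun c h1 h2 h3 => h2 (hfix c h1 h3)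
  have h11 : ∀ c, n c ≠ 0 → c ≠ 0 → S^[11] c = c := fun c h1 h2 => eleven_of hsum hn hS h1 (hSne c h1 h2)
  have hχS := hSne χ hχ hχ0
  have hχ11 := h11 χ hχ hχ0
  have hn0 : ∀ c, n c ≠ 0 → ∀ x ∈ cyc S c, n x = n c := by
    intro c _ x hx
    obtain ⟨i, rfl⟩ := mem_cyc.1 hx
    exact n_iter hn _ _
  have hmul := sum_cyc hχ11 hχS hn
  have hm2 : n χ ≤ 2 := by
    have : ∑ x ∈ cyc S χ, n x ≤ 27 := by
      rw [← hsum]; exact sum_le_sum_of_subset (subset_univ _)
    omega
  have hnegχ : - χ ≠ 0 := neg_ne_zero.2 hχ0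
  -- a pair of weights of the first cycle
  have hpair : ∀ c, c ∈ cyc S χ → - χ - c ∈ cyc S χ → c = χ := by
    intro c hc hc'
    obtain ⟨i, hi⟩ := mem_cyc.1 hc
    obtain ⟨j, hj⟩ := mem_cyc.1 hc'
    have h1 := rel3 hl hM S hχ11 hχS (i := i) (j := j) (by rw [hi, hj]; abel)
    rw [← hi, h1.1, O_zero]
  by_cases hcase : ∀ c, n c ≠ 0 → c ≠ 0 → c ∈ cyc S χ
  · -- one cycle
    have hle : ∀ c, c ≠ 0 → n c ≤ 2 := by
      intro c hc
      by_cases h0 : n c = 0
      · omega
      · rw [hn0 χ hχ c (hcase c h0 hc)]; exact hm2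
    have hsub : ∀ c, c ∉ ({0, - χ, χ} : Finset M) → min (n c) (n (- χ - c)) = 0 := by
      intro c hc
      simp only [mem_insert, mem_singleton, not_or] at hc
      by_contra hne
      have h1 : n c ≠ 0 := fun h => hne (by rw [h]; simp)
      have h2 : n (- χ - c) ≠ 0 := fun h => hne (by rw [h]; simp)
      have h3 : - χ - c ≠ 0 := fun h => hc.2.1 (sub_eq_zero.1 h).symm
      exact hc.2.2 (hpair c (hcase c h1 hc.1) (hcase _ h2 h3))
    rw [← sum_subset (subset_univ ({0, - χ, χ} : Finset M)) (fun c _ hc => hsub c hc)]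
    have h6 : ∀ c ∈ ({0, - χ, χ} : Finset M), min (n c) (n (- χ - c)) ≤ 2 := by
      intro c hc
      simp only [mem_insert, mem_singleton] at hc
      rcases hc with rfl | rfl | rfl
      · rw [sub_zero]
        exact (min_le_right _ _).trans (hle _ hnegχ)
      · exact (min_le_left _ _).trans (hle _ hnegχ)
      · exact (min_le_left _ _).trans (hle _ hχ0)
    have h7 := sum_le_card_nsmul _ _ 2 h6
    have h8 : ({0, - χ, χ} : Finset M).card ≤ 3 := card_le_three
    rw [smul_eq_mul] at h7
    omega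
  · -- two cycles
    push Not at hcase
    obtain ⟨ψ, hψ, hψ0, hψc⟩ := hcase
    have hψS := hSne ψ hψ hψ0
    have hψ11 := h11 ψ hψ hψ0
    have hcyc_of : ∀ c x, S^[11] c = c → x ∈ cyc S c → c ∈ cyc S x := by
      intro c x hc hx
      obtain ⟨i, rfl⟩ := mem_cyc.1 hx
      refine mem_cyc.2 ⟨-i, ?_⟩
      have := O_add S hc (-i) i
      rw [neg_add_cancel, O_zero] at this
      exact this.symm
    have htrans : ∀ c x y, S^[11] c = c → x ∈ cyc S c → y ∈ cyc S x → y ∈ cyc S c := by
      intro c x y hc hx hy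
      obtain ⟨i, rfl⟩ := mem_cyc.1 hx
      obtain ⟨j, rfl⟩ := mem_cyc.1 hy
      exact mem_cyc.2 ⟨j + i, O_add S hc j i⟩
    have hdisj : Disjoint (cyc S χ) (cyc S ψ) := by
      rw [disjoint_left]
      intro x hx hx'
      exact hψc (htrans χ x ψ hχ11 hx (hcyc_of ψ x hψ11 hx'))
    have hmul' := sum_cyc hψ11 hψS hn
    have hle27 : 11 * n χ + 11 * n ψ ≤ 27 := by
      rw [← hmul, ← hmul', ← sum_union hdisj, ← hsum]
      exact sum_le_sum_of_subset (subset_univ _)
    have hχ1 : n χ = 1 := by omega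
    have hψ1 : n ψ = 1 := by omega
    have hall : ∀ c, n c ≠ 0 → c ≠ 0 → c ∈ cyc S χ ∨ c ∈ cyc S ψ := by
      intro c hc hc0
      by_contra hne
      push Not at hne
      have hcS := hSne c hc hc0
      have hc11 := h11 c hc hc0
      have hd1 : Disjoint (cyc S χ ∪ cyc S ψ) (cyc S c) := by
        rw [disjoint_left]
        intro x hx hx'
        rcases mem_union.1 hx with hx | hx
        · exact hne.1 (htrans χ x c hχ11 hx (hcyc_of c x hc11 hx'))
        · exact hne.2 (htrans ψ x c hψ11 hx (hcyc_of c x hc11 hx'))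
      have hmulc := sum_cyc hc11 hcS hn
      have : 11 * n χ + 11 * n ψ + 11 * n c ≤ 27 := by
        rw [← hmul, ← hmul', ← hmulc, ← sum_union hdisj, ← sum_union hd1, ← hsum]
        exact sum_le_sum_of_subset (subset_univ _)
      omega
    have hle : ∀ c, c ≠ 0 → n c ≤ 1 := by
      intro c hc
      by_cases h0 : n c = 0
      · omega
      · rcases hall c h0 hc with h | h
        · rw [hn0 χ hχ c h]; omega
        · rw [hn0 ψ hψ c h]; omega
    -- the sets
    set A := (cyc S χ).filter (fun c => - χ - c ∈ cyc S ψ) with hA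
    set A' := A.image (fun c => - χ - c) with hA'
    set A'' := (cyc S ψ).filter (fun c => - χ - c ∈ cyc S ψ) with hA''
    have hne0 : ∀ x ∈ cyc S ψ, x ≠ 0 := by
      intro x hx h0
      obtain ⟨i, rfl⟩ := mem_cyc.1 hx
      apply hψ0
      have h2 : S^[i.val] ψ = S^[i.val] 0 := by rw [iter_zero]; exact h0
      exact (S.injective.iterate _) h2
    have hAcard : A.card ≤ 2 := by
      rcases A.eq_empty_or_nonempty with h | ⟨x, hx⟩
      · rw [h]; simp
      · rw [hA, mem_filter] at hx
        obtain ⟨i, hi⟩ := mem_cyc.1 hx.1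
        obtain ⟨j, hj⟩ := mem_cyc.1 hx.2
        refine le_trans (card_le_card (t := {O S χ i, O S χ (-i)}) ?_) card_le_two
        intro y hy
        rw [hA, mem_filter] at hy
        obtain ⟨i', hi'⟩ := mem_cyc.1 hy.1
        obtain ⟨j', hj'⟩ := mem_cyc.1 hy.2
        -- shift by `d = j' - j`
        have h1 : O S ψ j' = S^[(j' - j).val] (O S ψ j) := by
          rw [← O_add S hψ11, sub_add_cancel]
        have h2 : S^[(j' - j).val] (- χ - x) = - O S χ (j' - j) - O S χ (j' - j + i) := by
          rw [O_add S hχ11, hi]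
          have e1 : S^[(j' - j).val] (- χ - x) + (S^[(j' - j).val] χ + S^[(j' - j).val] x) = 0 := by
            rw [← iter_add, ← iter_add]
            have : - χ - x + (χ + x) = 0 := by abel
            rw [this, iter_zero]
          have e2 : O S χ (j' - j) = S^[(j' - j).val] χ := rfl
          rw [e2]
          rw [eq_neg_of_add_eq_zero_left e1]
          abel
        have h3 : O S χ 0 + O S χ i' = O S χ (j' - j) + O S χ (j' - j + i) := by
          rw [hj, h2, hj'] at h1
          rw [O_zero, hi']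
          have h4 : χ + y = - (- χ - y) := by abel
          rw [h4, h1]; abel
        have h4 : O S χ 0 + O S χ i' ≠ 0 := by
          rw [O_zero, hi']
          intro h0
          apply hne0 _ hy.2
          have : - χ - y = - (χ + y) := by abel
          rw [this, h0, neg_zero]
        rw [← hi', mem_insert, mem_singleton]
        rcases rel4 hl hM S hχ11 hχS h3 h4 with ⟨h5, h6⟩ | ⟨h5, h6⟩
        · left; rw [← h6, h5, zero_add]
        · right
          rw [← h6, eq_neg_of_add_eq_zero_left h5]
    have hA'card : A'.card ≤ 2 := card_image_le.trans hAcard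
    have hA''card : A''.card ≤ 2 := by
      rcases A''.eq_empty_or_nonempty with h | ⟨x, hx⟩
      · rw [h]; simp
      · rw [hA'', mem_filter] at hx
        obtain ⟨a, ha⟩ := mem_cyc.1 hx.1
        obtain ⟨b, hb⟩ := mem_cyc.1 hx.2
        refine le_trans (card_le_card (t := {O S ψ a, O S ψ b}) ?_) card_le_two
        intro y hy
        rw [hA'', mem_filter] at hy
        obtain ⟨d, hd⟩ := mem_cyc.1 hy.1
        obtain ⟨e, he⟩ := mem_cyc.1 hy.2
        have h1 : O S ψ a + O S ψ b = O S ψ d + O S ψ e := by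
          rw [ha, hb, hd, he]; abel
        have h2 : O S ψ a + O S ψ b ≠ 0 := by
          rw [ha, hb]
          have : x + (- χ - x) = - χ := by abel
          rw [this]; exact hnegχ
        rw [← hd, mem_insert, mem_singleton]
        rcases rel4 hl hM S hψ11 hψS h1 h2 with ⟨h5, h6⟩ | ⟨h5, h6⟩
        · left; rw [h5]
        · right; rw [h6]
    set U := ({0, - χ, χ} : Finset M) ∪ A ∪ A' ∪ A'' with hU
    have hsub : ∀ c, c ∉ U → min (n c) (n (- χ - c)) = 0 := by
      intro c hc
      simp only [hU, mem_union, mem_insert, mem_singleton, not_or] at hc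
      obtain ⟨⟨⟨⟨c1, c2, c3⟩, c4⟩, c5⟩, c6⟩ := hc
      by_contra hne
      have h1 : n c ≠ 0 := fun h => hne (by rw [h]; simp)
      have h2 : n (- χ - c) ≠ 0 := fun h => hne (by rw [h]; simp)
      have h3 : - χ - c ≠ 0 := fun h => c2 (sub_eq_zero.1 h).symm
      rcases hall c h1 c1 with h4 | h4 <;> rcases hall _ h2 h3 with h5 | h5
      · exact c3 (hpair c h4 h5)
      · exact c4 (by rw [hA, mem_filter]; exact ⟨h4, h5⟩)
      · apply c5
        rw [hA', mem_image]
        refine ⟨- χ - c, ?_, by abel⟩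
        rw [hA, mem_filter]
        refine ⟨h5, ?_⟩
        have : - χ - (- χ - c) = c := by abel
        rw [this]; exact h4
      · exact c6 (by rw [hA'', mem_filter]; exact ⟨h4, h5⟩)
    rw [← sum_subset (subset_univ U) (fun c _ hc => hsub c hc)]
    have h6 : ∀ c ∈ U, min (n c) (n (- χ - c)) ≤ 1 := by
      intro c _
      by_cases h0 : c = 0
      · subst h0
        rw [sub_zero]
        exact (min_le_right _ _).trans (hle _ hnegχ)
      · exact (min_le_left _ _).trans (hle _ h0)
    have h7 := sum_le_card_nsmul _ _ 1 h6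
    have h8 : ({0, - χ, χ} : Finset M).card ≤ 3 := card_le_three
    have h9 : U.card ≤ ({0, - χ, χ} : Finset M).card + A.card + A'.card + A''.card := by
      refine (card_union_le _ _).trans (Nat.add_le_add_right ?_ _)
      refine (card_union_le _ _).trans (Nat.add_le_add_right ?_ _)
      exact card_union_le _ _
    rw [smul_eq_mul, mul_one] at h7
    omega

end

end Cfsg.Agent.H190.E6
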