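import Mathlib

/-!
# An `ℓ`-group with an `ℓ'`-automorphism that acts trivially on all proper invariant subgroups
-/

set_option autoImplicit false

namespace Cfsg.Agent.H190.E6

open Subgroup
open scoped commutatorElement

variable {P : Type*} [Group P]

/-- `σ` is nontrivial of order prime to `|P|`, but trivial on all proper invariant subgroups. -/
structure MinAut (σ : P ≃* P) (m : ℕ) : Prop where
  ne : ∃ x, σ x ≠ x
  pow : ∀ x, (σ^[m]) x = x
  cop : ∀ x : P, x ^ m = 1 → x = 1
  min : ∀ R : Subgroup P, (∀ x ∈ R, σ x ∈ R) → R = ⊤ ∨ ∀ x ∈ R, σ x = x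

variable {σ : P ≃* P} {m : ℕ}

theorem iter_of_fix {x c : P} (h : σ x = x * c) (hc : σ c = c) (j : ℕ) : (σ^[j]) x = x * c ^ j := by
  induction j with
  | zero => simp
  | succ j ih => rw [Function.iterate_succ_apply', ih, map_mul, map_pow, hc, h, mul_assoc, ← pow_succ']

namespace MinAut

/-- if `x⁻¹ σ(x)` is fixed then `x` is fixed -/
theorem fix_of (h : MinAut σ m) {x : P} (hx : σ (x⁻¹ * σ x) = x⁻¹ * σ x) : σ x = x := by
  have h1 : σ x = x * (x⁻¹ * σ x) := by group
  have h2 := iter_of_fix h1 hx m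
  rw [h.pow] at h2
  have h3 := h.cop _ (left_eq_mul.1 h2)
  exact (inv_mul_eq_one.1 h3).symm

/-- `P = [P, σ]` -/
theorem closure_eq (h : MinAut σ m) : closure {y | ∃ x, y = x⁻¹ * σ x} = ⊤ := by
  have key : ∀ y ∈ closure {y | ∃ x, y = x⁻¹ * σ x}, σ y ∈ closure {y | ∃ x, y = x⁻¹ * σ x} := by
    intro y hy
    have h2 : closure {y | ∃ x, y = x⁻¹ * σ x} ≤ (closure {y | ∃ x, y = x⁻¹ * σ x}).comap σ.toMonoidHom := by
      rw [closure_le]
      rintro _ ⟨x, rfl⟩
      refine subset_closure ⟨σ x, ?_⟩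
      simp
    exact h2 hy
  rcases h.min _ key with h1 | h1
  · exact h1
  · exfalso
    obtain ⟨x, hx⟩ := h.ne
    exact hx (h.fix_of (h1 _ (subset_closure ⟨x, rfl⟩)))

/-- the abelian case: exponent `ℓ` -/
theorem exponent (h : MinAut σ m) {l : ℕ} (hP : ∀ x : P, ∃ j, x ^ l ^ j = 1) (hc : ∀ x y : P, x * y = y * x) :
    ∀ x : P, x ^ l = 1 := by
  have hmp : ∀ (x y : P) (n : ℕ), (x * y) ^ n = x ^ n * y ^ n := fun x y n => (show Commute x y from hc x y).mul_pow n
  let Ω : Subgroup P :=
    { carrier := {x | x ^ l = 1}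
      mul_mem' := fun {a b} ha hb => by
        show (a * b) ^ l = 1
        rw [hmp, ha, hb, one_mul]
      one_mem' := one_pow l
      inv_mem' := fun {a} ha => by
        show a⁻¹ ^ l = 1
        rw [inv_pow, ha, inv_one] }
  rcases h.min Ω (fun x hx => by
    show σ x ^ l = 1
    rw [← map_pow, hx, map_one]) with h1 | h1
  · intro x
    have : x ∈ Ω := by rw [h1]; trivial
    exact this
  · exfalso
    obtain ⟨x, hx⟩ := h.ne
    have key : ∀ j, ∀ x : P, x ^ l ^ j = 1 → σ x = x := by
      intro j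
      induction j with
      | zero =>
        intro x hx
        rw [pow_zero, pow_one] at hx
        rw [hx, map_one]
      | succ j ih =>
        intro x hx
        have h2 : σ (x ^ l) = x ^ l := ih (x ^ l) (by rw [← pow_mul, ← pow_succ']; exact hx)
        apply h.fix_of
        apply h1
        show (x⁻¹ * σ x) ^ l = 1
        rw [hmp, ← map_pow, h2, inv_pow, inv_mul_cancel]
    obtain ⟨j, hj⟩ := hP x
    exact hx (key j x hj)

/-- proper invariant normal subgroups are central -/
theorem le_center (h : MinAut σ m) {N : Subgroup P} (hN : N.Normal) (hσ : ∀ x ∈ N, σ x ∈ N) (hne : N ≠ ⊤) :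
    N ≤ center P := by
  have h1 := (h.min N hσ).resolve_left hne
  have h2 : closure {y | ∃ x, y = x⁻¹ * σ x} ≤ centralizer (N : Set P) := by
    rw [closure_le]
    rintro _ ⟨x, rfl⟩
    show x⁻¹ * σ x ∈ centralizer (N : Set P)
    rw [mem_centralizer_iff]
    intro φ hφ
    -- write `φ = x⁻¹ ψ x`
    have h3 : x * φ * x⁻¹ ∈ N := hN.conj_mem φ hφ x
    have h4 : σ φ = φ := h1 φ hφ
    have h5 : σ (x * φ * x⁻¹) = x * φ * x⁻¹ := h1 _ h3
    rw [map_mul, map_mul, map_inv, h4] at h5
    -- σx φ σx⁻¹ = x φ x⁻¹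
    have h6 : x⁻¹ * σ x * φ = φ * (x⁻¹ * σ x) := by
      have h7 : x⁻¹ * (σ x * φ * (σ x)⁻¹) * σ x = x⁻¹ * (x * φ * x⁻¹) * σ x := by rw [h5]
      calc x⁻¹ * σ x * φ = x⁻¹ * (σ x * φ * (σ x)⁻¹) * σ x := by group
        _ = x⁻¹ * (x * φ * x⁻¹) * σ x := h7
        _ = φ * (x⁻¹ * σ x) := by group
    exact h6.symm
  rw [h.closure_eq] at h2
  intro φ hφ
  rw [mem_center_iff]
  intro g
  exact ((mem_centralizer_iff.1 (h2 (mem_top g))) φ hφ).symm

/-- the nonabelian case -/
theorem nonabelian [Finite P] (h : MinAut σ m) {l : ℕ} [Fact l.Prime] (hP : IsPGroup l P) (hne : center P ≠ ⊤) :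
    commutator P ≤ center P ∧ (∀ z ∈ center P, σ z = z) ∧ ∀ x, x⁻¹ * σ x ∈ center P → x ∈ center P := by
  have hnil := hP.isNilpotent
  have hcomm : commutator P ≤ center P := by
    refine h.le_center inferInstance ?_ ?_
    · intro x hx
      have : (commutator P).map σ.toMonoidHom = commutator P := by
        rw [commutator_def, map_commutator]
        congr 1 <;> exact map_top_of_surjective _ σ.surjective
      rw [← this]
      exact mem_map_of_mem _ hx
    · intro htop
      apply hne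
      have hs : Group.IsSolvable P := inferInstance
      have : Subsingleton P := by
        by_contra hns
        rw [not_subsingleton_iff_nontrivial] at hns
        exact absurd htop (Group.IsSolvable.commutator_lt_top_of_nontrivial P).ne
      exact Subsingleton.elim _ _
  have hcenσ : ∀ x ∈ center P, σ x ∈ center P := by
    intro x hx
    rw [mem_center_iff] at hx ⊢
    intro g
    have := congrArg σ (hx (σ.symm g))
    simpa using this
  have hfix : ∀ z ∈ center P, σ z = z := (h.min _ hcenσ).resolve_left hne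
  refine ⟨hcomm, hfix, ?_⟩
  -- the endomorphism of `P / Z`
  have hmul : ∀ x y : P, ∃ z ∈ center P, (x * y)⁻¹ * σ (x * y) = (x⁻¹ * σ x) * (y⁻¹ * σ y) * z := by
    intro x y
    have h1 : ⁅y⁻¹, x⁻¹ * σ x⁆ ∈ center P := hcomm (commutator_mem_commutator (mem_top _) (mem_top _))
    refine ⟨⁅y⁻¹, x⁻¹ * σ x⁆, h1, ?_⟩
    have h2 := mem_center_iff.1 h1
    have h3 : (x * y)⁻¹ * σ (x * y) = y⁻¹ * (x⁻¹ * σ x) * y * (y⁻¹ * σ y) := by
      rw [map_mul]; group
    have h4 : y⁻¹ * (x⁻¹ * σ x) * y = ⁅y⁻¹, x⁻¹ * σ x⁆ * (x⁻¹ * σ x) := by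
      rw [commutatorElement_def]; group
    rw [h3, h4, mul_assoc ⁅y⁻¹, x⁻¹ * σ x⁆, ← h2]
  let Q := P ⧸ center P
  let f : P →* Q := MonoidHom.mk' (fun x => ((x⁻¹ * σ x : P) : Q)) (by
    intro x y
    obtain ⟨z, hz, e⟩ := hmul x y
    rw [e, QuotientGroup.mk_mul, QuotientGroup.mk_mul _ (x⁻¹ * σ x), (QuotientGroup.eq_one_iff z).2 hz, mul_one])
  have hfker : center P ≤ f.ker := by
    intro z hz
    rw [MonoidHom.mem_ker]
    show ((z⁻¹ * σ z : P) : Q) = 1
    rw [hfix z hz, inv_mul_cancel]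
    rfl
  have hsurj : Function.Surjective f := by
    have h1 : closure {y | ∃ x, y = x⁻¹ * σ x} ≤ f.range.comap (QuotientGroup.mk' (center P)) := by
      rw [closure_le]
      rintro _ ⟨x, rfl⟩
      exact ⟨x, rfl⟩
    rw [h.closure_eq] at h1
    intro q
    obtain ⟨x, rfl⟩ := QuotientGroup.mk'_surjective _ q
    exact h1 (mem_top x)
  let g : Q →* Q := QuotientGroup.lift (center P) f (fun z hz => hfker hz)
  have hgs : Function.Surjective g := by
    intro q
    obtain ⟨x, hx⟩ := hsurj q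
    exact ⟨(x : Q), hx⟩
  have hgi : Function.Injective g := Finite.injective_iff_surjective.2 hgs
  intro x hx
  have h1 : g (x : Q) = 1 := (QuotientGroup.eq_one_iff _).2 hx
  have h2 : (x : Q) = 1 := hgi (h1.trans (map_one g).symm)
  exact (QuotientGroup.eq_one_iff x).1 h2

/-- the number of elements of `P / Z` -/
theorem card_quot [Finite P] (h : MinAut σ m) {l : ℕ} [Fact l.Prime] (hP : IsPGroup l P) (hne : center P ≠ ⊤)
    {q : ℕ} [Fact q.Prime] {a : ℕ} (hm : m = q ^ a) : (center P).index ≡ 1 [MOD q] := by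
  classical
  obtain ⟨-, hfix, h2⟩ := h.nonabelian hP hne
  have hcenσ : ∀ x ∈ center P, σ x ∈ center P := fun x hx => by rw [hfix x hx]; exact hx
  let Q := P ⧸ center P
  have : Fintype Q := Fintype.ofFinite _
  let g : Q →* Q := QuotientGroup.map (center P) (center P) σ.toMonoidHom (fun x hx => hcenσ x hx)
  let F : Function.End Q := fun x => g x
  have hFiter : ∀ (j : ℕ) (x : P), (F^[j]) (x : Q) = ((σ^[j]) x : P) := by
    intro j x
    induction j with
    | zero => rfl
    | succ j ih => rw [Function.iterate_succ_apply', ih, Function.iterate_succ_apply']; rfl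
  have hF : F ^ q ^ a = 1 := by
    funext x
    obtain ⟨x, rfl⟩ := QuotientGroup.mk_surjective x
    have h3 : ∀ j : ℕ, ∀ y : Q, (F ^ j) y = (F^[j]) y := by
      intro j
      induction j with
      | zero => intro y; rfl
      | succ j ih =>
        intro y
        rw [pow_succ, Function.iterate_succ_apply]
        show (F ^ j) (F y) = _
        rw [ih]
    rw [h3, hFiter, ← hm, h.pow]
    rfl
  have h4 := Equiv.Perm.card_fixedPoints_modEq hF
  have h5 : Fintype.card (Function.fixedPoints F) = 1 := by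
    rw [Fintype.card_eq_one_iff]
    refine ⟨⟨1, map_one g⟩, ?_⟩
    rintro ⟨x, hx⟩
    obtain ⟨x, rfl⟩ := QuotientGroup.mk_surjective x
    apply Subtype.ext
    have h6 : ((σ x : P) : Q) = (x : Q) := hx
    have h7 : x⁻¹ * σ x ∈ center P := QuotientGroup.eq.1 h6.symm
    exact (QuotientGroup.eq_one_iff x).2 (h2 x h7)
  have h8 : Fintype.card (Function.fixedPoints F) ≡ 1 [MOD q] := by
    rw [h5]
  rw [Subgroup.index, Nat.card_eq_fintype_card]
  exact h4.trans h8

end MinAut

end Cfsg.Agent.H190.E6
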