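import Cfsg.Agent.H190.Start
import Cfsg.Agent.H190.E6.Weyl
import Cfsg.Agent.S1063
import Cfsg.Agent.S1035

/-!
# `E₆(q)`, `q` prime to `11`, has no section `A₁₃`
-/

set_option autoImplicit false
open scoped MatrixGroups
open Cfsg

namespace Cfsg.Agent.H190.E6

open Cfsg.Lie Cfsg.Agent.H190 Cfsg.Agent.H190.PC Cfsg.Agent.ChevalleyStructure Cfsg.Agent.ChevalleyStructure.Elts
  Cfsg.Agent.ChevalleyStructure.NPerm

universe u

theorem inE6 : InList chevE6 := by simp [InList]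

theorem gens_ok : ∀ i < chevE6.rank, ∃ c ∈ WE6.gens, ∀ x < chevE6.nroots, get c x = chevE6.reflectRoot i x := by
  decide +kernel

theorem gens_ok' : ∀ c ∈ WE6.gens, ∃ i < chevE6.rank, ∀ x < chevE6.nroots, get c x = chevE6.reflectRoot i x := by
  decide +kernel

/-- the index of the torus of `E₆` -/
theorem index_ok {K : Type u} [Field K] [Fintype K] {ℓ : ℕ} (hl : ℓ.Prime) (hq : ℓ ∣ Fintype.card K - 1)
    (hds : ∀ k ∈ [2, 5, 6, 8, 9, 12], ¬ ℓ ∣ k) : ¬ ℓ ∣ (TG chevE6 K).index := by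
  refine not_dvd_index inE6 [2, 5, 6, 8, 9, 12] (d := Nat.gcd 3 (Fintype.card K - 1)) (N := 36) ?_ ?_ ?_ hl hq hds
  · exact (Nat.gcd_pos_of_pos_left _ (by norm_num)).ne'
  · rw [Cfsg.Agent.S1063.result rfl]
    simp only [List.map_cons, List.map_nil, List.prod_cons, List.prod_nil]
    ring
  · exact Cfsg.Agent.S1035.result (F := K) rfl (chevE6, Nat.gcd 3 (Fintype.card K - 1)) (by simp)

/-- every element of the group generated by the simple reflections is given by an element of `N` -/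
theorem exists_pw {K : Type u} [Field K] {g : Equiv.Perm (Fin 72)} (hg : g ∈ WE6.W) :
    ∃ (m : ↥(chevE6.group K)) (hm : m ∈ NG chevE6 K), pw inE6 hm = g := by
  have h1 : WE6.W ≤ (permHom inE6 K).range := by
    rw [range_permHom inE6 K]
    refine Subgroup.closure_mono ?_
    rintro w ⟨c, hc, hcw⟩
    obtain ⟨i, hi, h⟩ := gens_ok' c hc
    refine ⟨⟨i, hi⟩, ?_⟩
    apply Equiv.ext
    intro x
    apply Fin.ext
    rw [permHom_nG inE6 hi _ (coe_nG inE6 _ _) x]
    exact (h x x.2).symm.trans (hcw x)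
  obtain ⟨⟨m, hm⟩, h2⟩ := h1 hg
  exact ⟨⟨m, monomial_le_group inE6 K hm⟩, hm, h2⟩

theorem cart_digits : ∀ s : Fin 72, (∀ i < 6, -2 ≤ chevE6.cartan i s ∧ chevE6.cartan i s ≤ 2) ∧
    (WE6.kc s : ℤ) = (chevE6.cartan 0 s + 2) + 16 * (chevE6.cartan 1 s + 2) + 256 * (chevE6.cartan 2 s + 2) +
      4096 * (chevE6.cartan 3 s + 2) + 65536 * (chevE6.cartan 4 s + 2) + 1048576 * (chevE6.cartan 5 s + 2) := by
  decide +kernel

theorem cartan_of_kc {a b c d : Fin 72} (h : WE6.kc a + WE6.kc b = WE6.kc c + WE6.kc d) :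
    ∀ i < 6, chevE6.cartan i a + chevE6.cartan i b = chevE6.cartan i c + chevE6.cartan i d := by
  obtain ⟨ha, ha'⟩ := cart_digits a
  obtain ⟨hb, hb'⟩ := cart_digits b
  obtain ⟨hc, hc'⟩ := cart_digits c
  obtain ⟨hd, hd'⟩ := cart_digits d
  have h' : (WE6.kc a : ℤ) + WE6.kc b = WE6.kc c + WE6.kc d := by exact_mod_cast h
  rw [ha', hb', hc', hd'] at h'
  have a0 := ha 0 (by norm_num)
  have a1 := ha 1 (by norm_num)
  have a2 := ha 2 (by norm_num)
  have a3 := ha 3 (by norm_num)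
  have a4 := ha 4 (by norm_num)
  have a5 := ha 5 (by norm_num)
  have b0 := hb 0 (by norm_num)
  have b1 := hb 1 (by norm_num)
  have b2 := hb 2 (by norm_num)
  have b3 := hb 3 (by norm_num)
  have b4 := hb 4 (by norm_num)
  have b5 := hb 5 (by norm_num)
  have c0 := hc 0 (by norm_num)
  have c1 := hc 1 (by norm_num)
  have c2 := hc 2 (by norm_num)
  have c3 := hc 3 (by norm_num)
  have c4 := hc 4 (by norm_num)
  have c5 := hc 5 (by norm_num)
  have d0 := hd 0 (by norm_num)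
  have d1 := hd 1 (by norm_num)
  have d2 := hd 2 (by norm_num)
  have d3 := hd 3 (by norm_num)
  have d4 := hd 4 (by norm_num)
  have d5 := hd 5 (by norm_num)
  intro i hi
  clear ha hb hc hd ha' hb' hc' hd' h
  interval_cases i <;> omega

/-- **No element of `N` acts on an element of order `11` of the torus as squaring.** -/
theorem weyl {K : Type u} [Field K] {n : ↥(chevE6.group K)} (hn : n ∈ NG chevE6 K)
    (hA : Acts (TG chevE6 K) n 11 2) : False := by
  have hmem : pw inE6 hn ∈ WE6.W := pw_mem inE6 hn WE6.gens gens_ok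
  have h10 : ∀ m, pw inE6 hn ^ m = 1 → 10 ∣ m := by
    intro m hm
    have h1 := hA.pow_eq_one (conj_pow_eq inE6 hn hm)
    have h2 : orderOf ((2 : ℕ) : ZMod 11) = 10 := by
      rw [orderOf_eq_iff (by norm_num)]
      decide
    rw [← h2]
    exact orderOf_dvd_of_pow_eq_one h1
  obtain ⟨g, hg, hrel⟩ := WE6.main hmem h10
  obtain ⟨m, hm, hmg⟩ := exists_pw (K := K) hg
  have hrel2 : ∀ t ∈ TG chevE6 K, ∀ s : Fin 72,
      ent (t : GL chevE6.Idx K) s * ent (t : GL chevE6.Idx K) (pw inE6 hn s) =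
        ent (t : GL chevE6.Idx K) ((pw inE6 hn ^ 5) s) * ent (t : GL chevE6.Idx K) ((pw inE6 hn ^ 6) s) := by
    intro t ht s
    have h1 := ent_rel inE6 (t := ((m * t * m⁻¹ : ↥(chevE6.group K)) : GL chevE6.Idx K)) (conj_mem_TG inE6 hm ht)
      (a := g s) (b := g (pw inE6 hn s)) (c := g ((pw inE6 hn ^ 5) s)) (d := g ((pw inE6 hn ^ 6) s))
      (cartan_of_kc (hrel s))
    have e : ∀ r : Fin 72, ent ((m * t * m⁻¹ : ↥(chevE6.group K)) : GL chevE6.Idx K) (g r) =
        ent (t : GL chevE6.Idx K) r := by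
      intro r
      rw [← hmg]
      exact ent_conj' inE6 hm ht r
    exact (congrArg₂ (· * ·) (e s) (e (pw inE6 hn s))).symm.trans
      (h1.trans (congrArg₂ (· * ·) (e ((pw inE6 hn ^ 5) s)) (e ((pw inE6 hn ^ 6) s))))
  have h := hA.rel (a := 6) (b := 5) (c := 1) (d := 0) (by
    intro t ht
    have hp : ∀ j : ℕ, n ^ j * t * (n ^ j)⁻¹ ∈ TG chevE6 K := fun j => conj_mem_TG inE6 (pow_mem_NG hn j) ht
    apply Subtype.ext
    refine torus_ext inE6 ?_ ?_ fun r => ?_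
    · exact (TG chevE6 K).mul_mem (hp 6) (hp 5)
    · exact (TG chevE6 K).mul_mem (hp 1) (hp 0)
    · obtain ⟨s, rfl⟩ := (pw inE6 hn ^ 6).surjective r
      have e1 := ent_mul inE6 (hp 6) (hp 5) ((pw inE6 hn ^ 6) s)
      have e2 := ent_mul inE6 (hp 1) (hp 0) ((pw inE6 hn ^ 6) s)
      refine e1.trans (Eq.trans ?_ e2.symm)
      have key : ∀ (j : ℕ) (x y : Fin 72), (pw inE6 hn ^ j) x = y →
          ent ((n ^ j * t * (n ^ j)⁻¹ : ↥(chevE6.group K)) : GL chevE6.Idx K) y = ent (t : GL chevE6.Idx K) x := by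
        intro j x y hxy
        rw [← hxy, ← pw_pow inE6 hn]
        exact ent_conj' inE6 (pow_mem_NG hn j) ht x
      have k6 := key 6 s _ rfl
      have k5 := key 5 (pw inE6 hn s) ((pw inE6 hn ^ 6) s) (by rw [← Equiv.Perm.mul_apply, ← pow_succ])
      have k1 := key 1 ((pw inE6 hn ^ 5) s) ((pw inE6 hn ^ 6) s) (by rw [pow_one, ← Equiv.Perm.mul_apply, ← pow_succ'])
      have k0 := key 0 ((pw inE6 hn ^ 6) s) ((pw inE6 hn ^ 6) s) (by rw [pow_zero]; rfl)
      exact (congrArg₂ (· * ·) k6 k5).trans ((hrel2 t ht s).trans (congrArg₂ (· * ·) k1 k0).symm))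
  revert h
  decide

/-- no section `A₁₃` if `p ≠ 11` -/
theorem no_thirteen {F : Type u} [Field F] [Fintype F] (p : ℕ) [hp : Fact p.Prime] [CharP F p] (h11 : p ≠ 11)
    (r : ℕ) (hr : 13 ≤ r) (H : Subgroup ↥(chevE6.group F)) (K : Subgroup ↥H) [K.Normal]
    (h : Nonempty (↥H ⧸ K ≃* ↥(alternatingGroup (Fin r)))) : False := by
  have : Fact (Nat.Prime 11) := ⟨by norm_num⟩
  have hm : ¬ p ∣ 11 := fun hd => h11 ((Nat.prime_dvd_prime_iff_eq hp.out (by norm_num)).1 hd)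
  obtain ⟨K', _, _, f, hK'⟩ := field_ext' F p hm
  obtain ⟨H', ι, φ, hι, hφ⟩ := start chevE6 f hr H K h
  have hidx := index_ok (K := K') (ℓ := 11) (by norm_num) hK' (by decide)
  obtain ⟨n, hn, hA⟩ := one_prime (torusData inE6 K') hidx ι hι φ hφ
    (x := ⟨x13, x13_mem⟩) (y := ⟨y13, y13_mem⟩) (k := 2) (by rw [Subgroup.orderOf_mk]; exact x13_order)
    (Subtype.ext rel13)
  exact weyl hn hA

end Cfsg.Agent.H190.E6
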