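import Cfsg.Agent.H190.E6.Lines
import Cfsg.Agent.H190.E6.Joint

/-!
# Elementary abelian 2- and 3-groups normalised by an element of order 11
-/

set_option autoImplicit false

namespace Cfsg.Agent.H190.E6

open Module

variable {k : Type*} [Field k] [IsAlgClosed k] {V : Type*} [AddCommGroup V] [Module k V] [FiniteDimensional k V]

theorem zeta_eq {k : Type*} [Field k] {l : ℕ} [NeZero l] {ζ : k} (hζ : IsPrimitiveRoot ζ l) {a b : ℕ}
    (h : ζ ^ a = ζ ^ b) : (a : ZMod l) = (b : ZMod l) := by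
  rw [pow_eq_pow_mod a hζ.pow_eq_one, pow_eq_pow_mod b hζ.pow_eq_one] at h
  have hl : 0 < l := Nat.pos_of_ne_zero (NeZero.ne l)
  have := hζ.pow_inj (Nat.mod_lt _ hl) (Nat.mod_lt _ hl) h
  exact (ZMod.natCast_eq_natCast_iff' a b l).2 this

/-- a trilinear form on a space of dimension 27 such that all bilinear forms `B v`, `v ≠ 0`, have rank at least 10 -/
structure Cubic (B : V →ₗ[k] V →ₗ[k] V →ₗ[k] k) : Prop where
  dim : finrank k V = 27
  rank : ∀ v, v ≠ 0 → 10 ≤ finrank k (LinearMap.range (B v))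

/-- `g` preserves `B` -/
def Inv (B : V →ₗ[k] V →ₗ[k] V →ₗ[k] k) (g : (Module.End k V)ˣ) : Prop :=
  ∀ v x y, B ((g : Module.End k V) v) ((g : Module.End k V) x) ((g : Module.End k V) y) = B v x y

section
variable {P : Subgroup (Module.End k V)ˣ} {s : (Module.End k V)ˣ}

/-- conjugation by `s` on `P` -/
def cj (h1 : ∀ x ∈ P, s * x * s⁻¹ ∈ P) (h2 : ∀ x ∈ P, s⁻¹ * x * s ∈ P) : ↥P ≃ ↥P where
  toFun x := ⟨s⁻¹ * x * s, h2 x x.2⟩
  invFun x := ⟨s * x * s⁻¹, h1 x x.2⟩
  left_inv x := Subtype.ext (by simp [mul_assoc])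
  right_inv x := Subtype.ext (by simp [mul_assoc])

/-- the action of `s` on the functions -/
def Sc {l : ℕ} (h1 : ∀ x ∈ P, s * x * s⁻¹ ∈ P) (h2 : ∀ x ∈ P, s⁻¹ * x * s ∈ P) : (↥P → ZMod l) ≃+ (↥P → ZMod l) where
  toFun c := fun x => c (cj h1 h2 x)
  invFun c := fun x => c ((cj h1 h2).symm x)
  left_inv c := funext fun x => by simp
  right_inv c := funext fun x => by simp
  map_add' c d := rfl

theorem Sc_iter {l : ℕ} (h1 : ∀ x ∈ P, s * x * s⁻¹ ∈ P) (h2 : ∀ x ∈ P, s⁻¹ * x * s ∈ P) (j : ℕ)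
    (c : ↥P → ZMod l) (x : ↥P) (hx : (s ^ j)⁻¹ * x * s ^ j ∈ P) :
    ((Sc h1 h2)^[j] c) x = c ⟨(s ^ j)⁻¹ * x * s ^ j, hx⟩ := by
  induction j generalizing x with
  | zero => exact congrArg c (Subtype.ext (by simp))
  | succ j ih =>
    rw [Function.iterate_succ_apply']
    show ((Sc h1 h2)^[j] c) (cj h1 h2 x) = _
    have e : (s ^ j)⁻¹ * (cj h1 h2 x : (Module.End k V)ˣ) * s ^ j = (s ^ (j + 1))⁻¹ * x * s ^ (j + 1) := by
      show (s ^ j)⁻¹ * (s⁻¹ * x * s) * s ^ j = _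
      rw [pow_succ', mul_inv_rev]
      simp only [mul_assoc]
    rw [ih _ (by rw [e]; exact hx)]
    congr 1
    exact Subtype.ext e

theorem finrank_Sc {l : ℕ} {ζ : k} (h1 : ∀ x ∈ P, s * x * s⁻¹ ∈ P) (h2 : ∀ x ∈ P, s⁻¹ * x * s ∈ P)
    (c : ↥P → ZMod l) :
    finrank k (J ζ (fun x : ↥P => ((x : (Module.End k V)ˣ) : Module.End k V)) (Sc h1 h2 c)) =
      finrank k (J ζ (fun x : ↥P => ((x : (Module.End k V)ˣ) : Module.End k V)) c) := by
  apply le_antisymm
  · have hmem : ∀ v ∈ J ζ (fun x : ↥P => ((x : (Module.End k V)ˣ) : Module.End k V)) (Sc h1 h2 c),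
        ((s⁻¹ : (Module.End k V)ˣ) : Module.End k V) v ∈ J ζ (fun x : ↥P => ((x : (Module.End k V)ˣ) : Module.End k V)) c := by
      intro v hv
      rw [mem_J] at hv ⊢
      intro x
      have h3 := hv ((cj h1 h2).symm x)
      have h4 : Sc h1 h2 c ((cj h1 h2).symm x) = c x := by
        show c (cj h1 h2 ((cj h1 h2).symm x)) = c x
        rw [Equiv.apply_symm_apply]
      rw [h4] at h3
      have h5 : ((x : (Module.End k V)ˣ) : Module.End k V) (((s⁻¹ : (Module.End k V)ˣ) : Module.End k V) v) =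
          ((s⁻¹ : (Module.End k V)ˣ) : Module.End k V) ((((cj h1 h2).symm x : (Module.End k V)ˣ) : Module.End k V) v) := by
        rw [← Module.End.mul_apply, ← Module.End.mul_apply, ← Units.val_mul, ← Units.val_mul]
        congr 2
        show _ = s⁻¹ * (s * x * s⁻¹)
        group
      rw [h5, h3, map_smul]
    refine LinearMap.finrank_le_finrank_of_injective (f := LinearMap.restrict ((s⁻¹ : (Module.End k V)ˣ) : Module.End k V) hmem) ?_
    intro v w hvw
    have h0 := congrArg Subtype.val hvw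
    have h3 := congrArg (fun u : V => (s : Module.End k V) u) h0
    simp only [LinearMap.coe_restrict_apply] at h3
    rw [← Module.End.mul_apply, ← Module.End.mul_apply, ← Units.val_mul, mul_inv_cancel] at h3
    exact Subtype.ext h3
  · have hmem : ∀ v ∈ J ζ (fun x : ↥P => ((x : (Module.End k V)ˣ) : Module.End k V)) c,
        ((s : (Module.End k V)ˣ) : Module.End k V) v ∈ J ζ (fun x : ↥P => ((x : (Module.End k V)ˣ) : Module.End k V)) (Sc h1 h2 c) := by
      intro v hv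
      rw [mem_J] at hv ⊢
      intro x
      have h3 := hv (cj h1 h2 x)
      have h5 : ((x : (Module.End k V)ˣ) : Module.End k V) ((s : Module.End k V) v) =
          (s : Module.End k V) (((cj h1 h2 x : (Module.End k V)ˣ) : Module.End k V) v) := by
        rw [← Module.End.mul_apply, ← Module.End.mul_apply, ← Units.val_mul, ← Units.val_mul]
        congr 2
        show _ = s * (s⁻¹ * x * s)
        group
      rw [h5, h3, map_smul]
      rfl
    refine LinearMap.finrank_le_finrank_of_injective (f := LinearMap.restrict ((s : (Module.End k V)ˣ) : Module.End k V) hmem) ?_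
    intro v w hvw
    have h0 := congrArg Subtype.val hvw
    have h3 := congrArg (fun u : V => ((s⁻¹ : (Module.End k V)ˣ) : Module.End k V) u) h0
    simp only [LinearMap.coe_restrict_apply] at h3
    rw [← Module.End.mul_apply, ← Module.End.mul_apply, ← Units.val_mul, inv_mul_cancel] at h3
    exact Subtype.ext h3

/-- **Elementary abelian groups**: an elementary abelian `ℓ`-group `P = [P, s]`, `ℓ = 2, 3`, is trivial. -/
theorem eq_bot_of_elementary {B : V →ₗ[k] V →ₗ[k] V →ₗ[k] k} (hB : Cubic B) {l : ℕ} (hl : l = 2 ∨ l = 3)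
    (hlk : (l : k) ≠ 0) [Finite ↥P] (hPB : ∀ g ∈ P, Inv B g)
    (hcomm : ∀ x ∈ P, ∀ y ∈ P, x * y = y * x) (hexp : ∀ x ∈ P, x ^ l = 1)
    (h1 : ∀ x ∈ P, s * x * s⁻¹ ∈ P) (h2 : ∀ x ∈ P, s⁻¹ * x * s ∈ P) (hs : ∃ a, s ^ 11 ^ a = 1)
    (hgen : P ≤ Subgroup.closure {y | ∃ x ∈ P, y = x⁻¹ * (s * x * s⁻¹)}) : P = ⊥ := by
  classical
  have : NeZero l := ⟨by rcases hl with rfl | rfl <;> norm_num⟩
  have : Fintype ↥P := Fintype.ofFinite _
  obtain ⟨ζ, hζ⟩ : ∃ ζ : k, IsPrimitiveRoot ζ l := by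
    have : NeZero (l : k) := ⟨hlk⟩
    exact HasEnoughRootsOfUnity.exists_primitiveRoot k l
  set T : ↥P → Module.End k V := fun x => ((x : (Module.End k V)ˣ) : Module.End k V) with hT
  have hTn : ∀ x, T x ^ l = 1 := by
    intro x
    rw [hT]
    show ((x : (Module.End k V)ˣ) : Module.End k V) ^ l = 1
    rw [← Units.val_pow_eq_pow_val, hexp x x.2, Units.val_one]
  have hTc : ∀ x y, Commute (T x) (T y) := by
    intro x y
    show ((x : (Module.End k V)ˣ) : Module.End k V) * ((y : (Module.End k V)ˣ) : Module.End k V) = _ * _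
    rw [← Units.val_mul, ← Units.val_mul, hcomm x x.2 y y.2]
  set n : (↥P → ZMod l) → ℕ := fun c => finrank k (J ζ T c) with hn
  have hsum : ∑ c, n c = 27 := by rw [hn, sum_J hζ hlk hTn hTc, hB.dim]
  have hnz : ∀ c, n c ≠ 0 → J ζ T c ≠ ⊥ := by
    intro c hc h
    apply hc
    show finrank k (J ζ T c) = 0
    rw [h, finrank_bot]
  -- weights are homomorphisms
  have hhom : ∀ c, n c ≠ 0 → ∀ x y : ↥P, c (x * y) = c x + c y := by
    intro c hc x y
    obtain ⟨v, hv, hv0⟩ := Submodule.exists_mem_ne_zero_of_ne_bot (hnz c hc)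
    rw [mem_J] at hv
    have h3 := hv (x * y)
    have h4 : T (x * y) v = T x (T y v) := rfl
    rw [h4, hv y, map_smul, hv x, smul_smul, ← pow_add] at h3
    have h5 : ζ ^ ((c y).val + (c x).val) = ζ ^ (c (x * y)).val := smul_left_injective k hv0 h3
    replace h5 := zeta_eq hζ h5
    push_cast [ZMod.natCast_zmod_val] at h5
    rw [← h5, add_comm]
  have hM : ∀ x : ↥P → ZMod l, l • x = 0 := by
    intro x
    funext i
    rw [Pi.smul_apply, nsmul_eq_mul, ZMod.natCast_self, zero_mul, Pi.zero_apply]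
  obtain ⟨a, ha⟩ := hs
  have hSiter : ∃ a, ∀ c : ↥P → ZMod l, (Sc h1 h2)^[11 ^ a] c = c := by
    refine ⟨a, fun c => funext fun x => ?_⟩
    rw [Sc_iter h1 h2 _ c x (by rw [ha]; simp)]
    congr 1
    exact Subtype.ext (by simp [ha])
  have hfix : ∀ c, n c ≠ 0 → Sc h1 h2 c = c → c = 0 := by
    intro c hc hSc
    have h3 := hhom c hc
    have hc1 : c 1 = 0 := by
      have := h3 1 1
      rw [mul_one] at this
      exact left_eq_add.1 this
    have hcinv : ∀ x : ↥P, c x⁻¹ = - c x := by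
      intro x
      have := h3 x⁻¹ x
      rw [inv_mul_cancel, hc1] at this
      exact eq_neg_of_add_eq_zero_left this.symm
    have h4 : ∀ y ∈ Subgroup.closure {y | ∃ x ∈ P, y = x⁻¹ * (s * x * s⁻¹)}, ∃ hy : y ∈ P, c ⟨y, hy⟩ = 0 := by
      intro y hy
      induction hy using Subgroup.closure_induction with
      | mem y hy =>
        obtain ⟨x, hx, rfl⟩ := hy
        refine ⟨P.mul_mem (P.inv_mem hx) (h1 x hx), ?_⟩
        have h5 : (⟨x⁻¹ * (s * x * s⁻¹), P.mul_mem (P.inv_mem hx) (h1 x hx)⟩ : ↥P) =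
            (⟨x, hx⟩ : ↥P)⁻¹ * ⟨s * x * s⁻¹, h1 x hx⟩ := rfl
        rw [h5, h3, hcinv]
        have h6 := congrFun hSc ⟨s * x * s⁻¹, h1 x hx⟩
        have h7 : cj h1 h2 ⟨s * x * s⁻¹, h1 x hx⟩ = ⟨x, hx⟩ := Subtype.ext (by
          show s⁻¹ * (s * x * s⁻¹) * s = x
          group)
        have h8 : Sc h1 h2 c ⟨s * x * s⁻¹, h1 x hx⟩ = c (cj h1 h2 ⟨s * x * s⁻¹, h1 x hx⟩) := rfl
        rw [h8, h7] at h6
        rw [← h6, neg_add_cancel]
      | one => exact ⟨P.one_mem, hc1⟩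
      | mul x y _ _ hx hy =>
        obtain ⟨hx, hx'⟩ := hx
        obtain ⟨hy, hy'⟩ := hy
        refine ⟨P.mul_mem hx hy, ?_⟩
        have : (⟨x * y, P.mul_mem hx hy⟩ : ↥P) = ⟨x, hx⟩ * ⟨y, hy⟩ := rfl
        rw [this, h3, hx', hy', add_zero]
      | inv x _ hx =>
        obtain ⟨hx, hx'⟩ := hx
        refine ⟨P.inv_mem hx, ?_⟩
        have : (⟨x⁻¹, P.inv_mem hx⟩ : ↥P) = (⟨x, hx⟩ : ↥P)⁻¹ := rfl
        rw [this, hcinv, hx', neg_zero]
    funext x
    obtain ⟨_, h5⟩ := h4 x (hgen x.2)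
    exact h5
  rw [eq_bot_iff]
  intro x0 hx0
  rw [Subgroup.mem_bot]
  by_contra hne
  -- a nonzero weight
  obtain ⟨χ, hχ, hχ0⟩ : ∃ χ, n χ ≠ 0 ∧ χ ≠ 0 := by
    by_contra hall
    push Not at hall
    apply hne
    have h3 : J ζ T (0 : ↥P → ZMod l) = ⊤ := by
      rw [← iSup_J hζ hlk hTn hTc]
      refine le_antisymm (le_iSup (fun c : ↥P → ZMod l => J ζ T c) 0) (iSup_le fun c => ?_)
      by_cases hc : n c = 0
      · have : J ζ T c = ⊥ := Submodule.finrank_eq_zero.1 hc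
        rw [this]; exact bot_le
      · rw [hall c hc]
    apply Units.ext
    apply LinearMap.ext
    intro v
    have h4 : v ∈ J ζ T (0 : ↥P → ZMod l) := by rw [h3]; trivial
    have h5 := mem_J.1 h4 ⟨x0, hx0⟩
    rw [Pi.zero_apply, ZMod.val_zero, pow_zero, one_smul] at h5
    exact h5
  have h3 := lines hl hM hsum (S := Sc h1 h2) (fun c => finrank_Sc h1 h2 c) hSiter hfix hχ hχ0
  have h4 := ten_le hB.rank hζ hlk hTn hTc (fun i v x y => hPB i i.2 v x y) (hnz χ hχ)
  have h5 : ∑ c, min (finrank k (J ζ T c)) (finrank k (J ζ T (- χ - c))) = ∑ c, min (n c) (n (- χ - c)) := rfl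
  rw [h5] at h4
  omega

end

end Cfsg.Agent.H190.E6
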