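import Cfsg.Agent.H190.E6.QAb
import Cfsg.Agent.H190.E6.MinAut

/-!
# Class two groups: the index of the centre is the square of a number at most the degree
-/

set_option autoImplicit false

namespace Cfsg.Agent.H190.E6

open Module Subgroup
open scoped commutatorElement

theorem zeta_add {k : Type*} [Field k] {l : ℕ} [NeZero l] {ζ : k} (hζ : IsPrimitiveRoot ζ l) (a b : ZMod l) :
    ζ ^ (a + b).val = ζ ^ a.val * ζ ^ b.val := by
  rw [ZMod.val_add, ← pow_add, ← pow_eq_pow_mod _ hζ.pow_eq_one]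

variable {k : Type*} [Field k] {V : Type*} [AddCommGroup V] [Module k V]

theorem weight_mul {G : Type*} [Group G] (T : G →* Module.End k V) {n : ℕ} [NeZero n] {ζ : k}
    (hζ : IsPrimitiveRoot ζ n) {c : G → ZMod n} (h : J ζ (fun x => T x) c ≠ ⊥) (x y : G) : c (x * y) = c x + c y := by
  obtain ⟨v, hv, hv0⟩ := Submodule.exists_mem_ne_zero_of_ne_bot h
  rw [mem_J] at hv
  have h3 := hv (x * y)
  rw [map_mul, Module.End.mul_apply, hv y, map_smul, hv x, smul_smul, ← pow_add] at h3
  have h5 : ζ ^ ((c y).val + (c x).val) = ζ ^ (c (x * y)).val := smul_left_injective k hv0 h3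
  replace h5 := zeta_eq hζ h5
  push_cast [ZMod.natCast_zmod_val] at h5
  rw [← h5, add_comm]

/-- the sum of the values of a linear character with values in roots of unity -/
theorem sum_char {G : Type*} [Group G] [Fintype G] {n : ℕ} [NeZero n] (φ : G → ZMod n)
    (hφ : ∀ x y, φ (x * y) = φ x + φ y) :
    ∑ g, ZMod.stdAddChar (φ g) = (if (∀ g, φ g = 0) then (Nat.card G : ℂ) else 0 : ℂ) := by
  classical
  have h1 : φ 1 = 0 := by
    have := hφ 1 1
    rw [mul_one] at this
    exact left_eq_add.1 this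
  split_ifs with h
  · simp only [h, AddChar.map_zero_eq_one, Finset.sum_const, nsmul_eq_mul, mul_one, Finset.card_univ,
      Nat.card_eq_fintype_card]
  · push Not at h
    obtain ⟨g0, hg0⟩ := h
    have h2 : ZMod.stdAddChar (φ g0) ≠ (1 : ℂ) := by
      intro h3
      apply hg0
      apply ZMod.injective_stdAddChar
      rw [AddChar.map_zero_eq_one]
      exact h3
    have h3 : ZMod.stdAddChar (φ g0) * ∑ g, ZMod.stdAddChar (φ g) = (∑ g, ZMod.stdAddChar (φ g) : ℂ) := by
      rw [Finset.mul_sum, ← Equiv.sum_comp (Equiv.mulLeft g0) (fun g => (ZMod.stdAddChar (φ g) : ℂ))]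
      refine Finset.sum_congr rfl fun g _ => ?_
      rw [Equiv.coe_mulLeft, hφ, AddChar.map_add_eq_mul]
    by_contra h4
    exact h2 (mul_right_cancel₀ h4 (h3.trans (one_mul _).symm))

/-- double counting of the values of a character of the form -/
theorem count {P : Type*} [Group P] [Finite P] {n : ℕ} [NeZero n] (b : P → P → ZMod n)
    (bml : ∀ x x' y, b (x * x') y = b x y + b x' y) (bmr : ∀ x y y', b x (y * y') = b x y + b x y')
    (Z B : Subgroup P) (hZB : Z ≤ B) (hB0 : ∀ x ∈ B, ∀ y ∈ B, b x y = 0) (hperp : ∀ x, (∀ y ∈ B, b x y = 0) → x ∈ B)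
    (hz : ∀ y, (∀ x, b x y = 0) ↔ y ∈ Z) : Nat.card B ^ 2 = Nat.card Z * Nat.card P := by
  classical
  have : Fintype P := Fintype.ofFinite P
  have h1 : ∀ x : P, ∑ y : B, ZMod.stdAddChar (b x y) = (if x ∈ B then (Nat.card B : ℂ) else 0 : ℂ) := by
    intro x
    rw [sum_char (fun y : B => b x y) (fun y y' => by rw [Subgroup.coe_mul, bmr])]
    have : (∀ g : B, b x g = 0) ↔ x ∈ B := ⟨fun h => hperp x fun y hy => h ⟨y, hy⟩, fun h g => hB0 x h g g.2⟩
    simp only [this]
  have h2 : ∀ y : B, ∑ x : P, ZMod.stdAddChar (b x y) = (if (y : P) ∈ Z then (Nat.card P : ℂ) else 0 : ℂ) := by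
    intro y
    rw [sum_char (fun x : P => b x y) (fun x x' => bml x x' y)]
    simp only [hz]
  have h3 : ∑ x : P, ∑ y : B, (ZMod.stdAddChar (b x y) : ℂ) = (Nat.card B : ℂ) * Nat.card B := by
    simp only [h1]
    rw [← Finset.sum_filter, Finset.sum_const, nsmul_eq_mul]
    congr 2
    rw [Nat.card_eq_fintype_card, Fintype.card_subtype]
  have h4 : ∑ x : P, ∑ y : B, (ZMod.stdAddChar (b x y) : ℂ) = (Nat.card Z : ℂ) * Nat.card P := by
    rw [Finset.sum_comm]
    simp only [h2]
    rw [← Finset.sum_filter, Finset.sum_const, nsmul_eq_mul]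
    congr 2
    rw [← Fintype.card_subtype, ← Nat.card_eq_fintype_card]
    exact Nat.card_congr ⟨fun y => ⟨y.1.1, y.2⟩, fun z => ⟨⟨z.1, hZB z.2⟩, z.2⟩, fun _ => rfl, fun _ => rfl⟩
  rw [pow_two]
  have := h3.symm.trans h4
  exact_mod_cast this

variable [IsAlgClosed k] [FiniteDimensional k V] {P : Type*} [Group P] [Finite P]

/-- **The index of the centre is a square of a number at most the degree.** -/
theorem exists_sq {l : ℕ} (hlk : (l : k) ≠ 0) (hP : ∃ e, Nat.card P = l ^ e) (ρ : P →* Module.End k V)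
    (hρ : Function.Injective ρ) (σ : P ≃* P) (hcomm : commutator P ≤ center P) (hne : center P ≠ ⊤)
    (hrad : ∀ N : Subgroup P, N.Normal → (∀ x ∈ N, σ x ∈ N) → N ≠ ⊤ → N ≤ center P)
    (hfix : ∀ z ∈ center P, σ z = z) :
    ∃ m, m ≤ finrank k V ∧ (center P).index = m ^ 2 ∧ ∃ B : Subgroup P, B.index = m := by
  classical
  have : Fintype P := Fintype.ofFinite P
  obtain ⟨e, he⟩ := hP
  set n := Nat.card P with hn
  have hnk : (n : k) ≠ 0 := by rw [he]; push_cast; exact pow_ne_zero _ hlk
  have hn0 : NeZero n := ⟨Nat.card_pos.ne'⟩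
  obtain ⟨ζ, hζ⟩ : ∃ ζ : k, IsPrimitiveRoot ζ n := by
    have : NeZero (n : k) := ⟨hnk⟩
    exact HasEnoughRootsOfUnity.exists_primitiveRoot k n
  have hTn : ∀ x : P, ρ x ^ n = 1 := by
    intro x
    rw [← map_pow, hn, pow_card_eq_one', map_one]
  have hzc : ∀ x y : P, ⁅x, y⁆ ∈ center P := fun x y => hcomm (commutator_mem_commutator (mem_top _) (mem_top _))
  -- a non-trivial commutator
  obtain ⟨x0, y0, h0⟩ : ∃ x0 y0 : P, ⁅x0, y0⁆ ≠ 1 := by
    by_contra hall
    push Not at hall
    apply hne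
    rw [eq_top_iff]
    intro x _
    rw [mem_center_iff]
    intro g
    exact commutatorElement_eq_one_iff_mul_comm.1 (hall g x)
  set z0 := ⁅x0, y0⁆ with hz0
  -- the weight of the centre
  let TZ : center P →* Module.End k V := ρ.comp (center P).subtype
  have hTZn : ∀ x : center P, TZ x ^ n = 1 := fun x => hTn x
  have hTZc : ∀ x y : center P, Commute (TZ x) (TZ y) := by
    intro x y
    show ρ x * ρ y = ρ y * ρ x
    rw [← map_mul, ← map_mul, mem_center_iff.1 y.2]
  obtain ⟨c, hc, hc0⟩ : ∃ c : center P → ZMod n, J ζ (fun x => TZ x) c ≠ ⊥ ∧ c ⟨z0, hzc _ _⟩ ≠ 0 := by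
    by_contra hall
    push Not at hall
    apply h0
    apply hρ
    rw [map_one]
    have h1 : ∀ c : center P → ZMod n, J ζ (fun x => TZ x) c ≤ LinearMap.ker (ρ z0 - 1) := by
      intro c
      by_cases hc : J ζ (fun x => TZ x) c = ⊥
      · rw [hc]; exact bot_le
      · intro v hv
        have h2 := mem_J.1 hv ⟨z0, hzc _ _⟩
        rw [hall c hc, ZMod.val_zero, pow_zero, one_smul] at h2
        rw [LinearMap.mem_ker, LinearMap.sub_apply, Module.End.one_apply, sub_eq_zero]
        exact h2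
    have h2 := iSup_le h1
    rw [iSup_J hζ hnk hTZn hTZc, top_le_iff, LinearMap.ker_eq_top] at h2
    exact sub_eq_zero.1 h2
  have hcmul := weight_mul TZ hζ hc
  have hc1 : c 1 = 0 := by
    have := hcmul 1 1
    rw [mul_one] at this
    exact left_eq_add.1 this
  -- the form
  let b : P → P → ZMod n := fun x y => c ⟨⁅x, y⁆, hzc x y⟩
  have bml : ∀ x x' y, b (x * x') y = b x y + b x' y := by
    intro x x' y
    show c _ = c _ + c _
    rw [← hcmul]
    congr 1
    apply Subtype.ext
    show ⁅x * x', y⁆ = ⁅x, y⁆ * ⁅x', y⁆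
    have h1 : ⁅x * x', y⁆ = x * ⁅x', y⁆ * x⁻¹ * ⁅x, y⁆ := by
      simp only [commutatorElement_def]; group
    rw [h1, mem_center_iff.1 (hzc x' y) x, mul_assoc ⁅x', y⁆, mul_inv_cancel, mul_one]
    exact (mem_center_iff.1 (hzc x' y) _).symm
  have bs : ∀ x, b x x = 0 := by
    intro x
    show c _ = 0
    rw [← hc1]
    congr 1
    exact Subtype.ext (commutatorElement_self x)
  have bsymm : ∀ x y, b y x = - b x y := by
    intro x y
    rw [eq_neg_iff_add_eq_zero, ← hc1]
    show c _ + c _ = _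
    rw [← hcmul]
    congr 1
    apply Subtype.ext
    show ⁅y, x⁆ * ⁅x, y⁆ = 1
    simp only [commutatorElement_def]; group
  have bmr : ∀ x y y', b x (y * y') = b x y + b x y' := by
    intro x y y'
    rw [bsymm (y * y') x, bml, neg_add, ← bsymm, ← bsymm]
  have b1l : ∀ y, b 1 y = 0 := by
    intro y
    have := bml 1 1 y
    rw [mul_one] at this
    exact left_eq_add.1 this
  have b1r : ∀ y, b y 1 = 0 := by
    intro y
    rw [bsymm 1 y, b1l, neg_zero]
  have bil : ∀ x y, b x⁻¹ y = - b x y := by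
    intro x y
    rw [eq_neg_iff_add_eq_zero, ← bml, inv_mul_cancel, b1l]
  have bir : ∀ x y, b x y⁻¹ = - b x y := by
    intro x y
    rw [bsymm y⁻¹ x, bil, ← bsymm]
  have bz : ∀ z ∈ center P, ∀ y, b z y = 0 := by
    intro z hz y
    show c _ = 0
    rw [← hc1]
    congr 1
    apply Subtype.ext
    exact commutatorElement_eq_one_iff_mul_comm.2 (mem_center_iff.1 hz y).symm
  have bzr : ∀ z ∈ center P, ∀ y, b y z = 0 := by
    intro z hz y
    rw [bsymm z y, bz z hz, neg_zero]
  -- the radical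
  let Rad : Subgroup P :=
    { carrier := {x | ∀ y, b x y = 0}
      mul_mem' := fun {x x'} hx hx' y => by rw [bml, hx, hx', add_zero]
      one_mem' := b1l
      inv_mem' := fun {x} hx y => by rw [bil, hx, neg_zero] }
  have hRadle : Rad ≤ center P := by
    refine hrad Rad ⟨fun x hx g y => ?_⟩ (fun x hx y => ?_) ?_
    · rw [bml, bml, hx, bil, add_zero, add_neg_cancel]
    · have h1 : b (σ x) y = b x (σ.symm y) := by
        show c _ = c _
        congr 1
        apply Subtype.ext
        have h2 : σ ⁅x, σ.symm y⁆ = ⁅σ x, y⁆ := by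
          rw [map_commutatorElement, MulEquiv.apply_symm_apply]
        show ⁅σ x, y⁆ = ⁅x, σ.symm y⁆
        rw [← h2]
        exact hfix _ (hzc _ _)
      rw [h1]
      exact hx _
    · intro htop
      have h1 : x0 ∈ Rad := by rw [htop]; trivial
      exact hc0 (h1 y0)
  -- a maximal isotropic subgroup
  obtain ⟨B, hBmax⟩ : ∃ B, Maximal (fun R : Subgroup P => center P ≤ R ∧ ∀ x ∈ R, ∀ y ∈ R, b x y = 0) B := by
    have h1 : {R : Subgroup P | center P ≤ R ∧ ∀ x ∈ R, ∀ y ∈ R, b x y = 0}.Finite := Set.toFinite _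
    exact h1.exists_maximal ⟨center P, le_rfl, fun x hx y _ => bz x hx y⟩
  obtain ⟨⟨hZB, hB0⟩, hBm⟩ := hBmax
  have hperp : ∀ x, (∀ y ∈ B, b x y = 0) → x ∈ B := by
    intro x hx
    have h1 : ∀ g ∈ closure ((B : Set P) ∪ {x}), ∀ y ∈ (B : Set P) ∪ {x}, b g y = 0 := by
      intro g hg
      induction hg using closure_induction with
      | mem g hg =>
        rintro y (hy | hy)
        · rcases hg with hg | hg
          · exact hB0 g hg y hy
          · rw [Set.mem_singleton_iff.1 hg]; exact hx y hy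
        · rw [Set.mem_singleton_iff.1 hy]
          rcases hg with hg | hg
          · rw [bsymm x g, hx g hg, neg_zero]
          · rw [Set.mem_singleton_iff.1 hg]; exact bs x
      | one => intro y _; exact b1l y
      | mul g g' _ _ hg hg' => intro y hy; rw [bml, hg y hy, hg' y hy, add_zero]
      | inv g _ hg => intro y hy; rw [bil, hg y hy, neg_zero]
    have h2 : ∀ g ∈ closure ((B : Set P) ∪ {x}), ∀ h ∈ closure ((B : Set P) ∪ {x}), b g h = 0 := by
      intro g hg h hh
      induction hh using closure_induction with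
      | mem h hh => exact h1 g hg h hh
      | one => exact b1r g
      | mul h h' _ _ hh hh' => rw [bmr, hh, hh', add_zero]
      | inv h _ hh => rw [bir, hh, neg_zero]
    have hle : B ≤ closure ((B : Set P) ∪ {x}) := fun y hy => subset_closure (Or.inl hy)
    have h3 := hBm (y := closure ((B : Set P) ∪ {x})) ⟨hZB.trans hle, h2⟩ hle
    exact h3 (subset_closure (Or.inr rfl))
  -- the weight space of the centre
  set W := J ζ (fun x => TZ x) c with hW
  have hWinv : ∀ g : P, ∀ v ∈ W, ρ g v ∈ W := by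
    intro g v hv
    rw [hW, mem_J] at hv ⊢
    intro z
    show ρ z (ρ g v) = _
    rw [← Module.End.mul_apply, ← map_mul, ← mem_center_iff.1 z.2 g, map_mul, Module.End.mul_apply]
    have : ρ z v = ζ ^ (c z).val • v := hv z
    rw [this, map_smul]
  let TW : B → Module.End k W := fun y => (ρ y).restrict (hWinv y)
  have hTWap : ∀ (y : B) (w : W), ((TW y w : W) : V) = ρ y w := fun y w => rfl
  have hTWpow : ∀ (y : B) (j : ℕ) (w : W), (((TW y ^ j) w : W) : V) = (ρ y ^ j) w := by
    intro y j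
    induction j with
    | zero => intro w; rfl
    | succ j ih =>
      intro w
      rw [pow_succ, pow_succ, Module.End.mul_apply, Module.End.mul_apply, ih, hTWap]
  have hTWn : ∀ y, TW y ^ n = 1 := by
    intro y
    apply LinearMap.ext
    intro w
    apply Subtype.ext
    rw [hTWpow, hTn]
    rfl
  have hTWc : ∀ x y, Commute (TW x) (TW y) := by
    intro x y
    show TW x * TW y = TW y * TW x
    apply LinearMap.ext
    intro w
    apply Subtype.ext
    rw [Module.End.mul_apply, Module.End.mul_apply, hTWap, hTWap, hTWap, hTWap, ← Module.End.mul_apply,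
      ← Module.End.mul_apply, ← map_mul, ← map_mul]
    have h1 : (x : P) * y = y * x * ⁅(x : P)⁻¹, (y : P)⁻¹⁆ := by
      rw [commutatorElement_def]; group
    rw [h1, map_mul, Module.End.mul_apply]
    congr 1
    have h2 := mem_J.1 (show (w : V) ∈ J ζ (fun x => TZ x) c from w.2) ⟨⁅(x : P)⁻¹, (y : P)⁻¹⁆, hzc _ _⟩
    have h3 : c ⟨⁅(x : P)⁻¹, (y : P)⁻¹⁆, hzc _ _⟩ = 0 := by
      show b (x : P)⁻¹ (y : P)⁻¹ = 0
      rw [bil, bir, hB0 x x.2 y y.2]; simp
    rw [h3, ZMod.val_zero, pow_zero, one_smul] at h2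
    exact h2
  obtain ⟨d, hd⟩ : ∃ d : B → ZMod n, J ζ TW d ≠ ⊥ := by
    by_contra hall
    push Not at hall
    have h1 := iSup_J hζ hnk hTWn hTWc
    simp only [hall, iSup_bot] at h1
    obtain ⟨v, hv, hv0⟩ := Submodule.exists_mem_ne_zero_of_ne_bot hc
    have h2 : (⟨v, hv⟩ : W) ∈ (⊥ : Submodule k W) := by rw [h1]; trivial
    rw [Submodule.mem_bot] at h2
    exact hv0 (congrArg Subtype.val h2)
  obtain ⟨w, hw, hw0⟩ := Submodule.exists_mem_ne_zero_of_ne_bot hd
  rw [mem_J] at hw
  -- the orbit of `w`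
  let u : P → W := fun g => ⟨ρ g w, hWinv g w w.2⟩
  have hu0 : ∀ g, u g ≠ 0 := by
    intro g h
    apply hw0
    apply Subtype.ext
    have h1 : ρ g w = 0 := congrArg Subtype.val h
    have h2 : ρ g⁻¹ (ρ g w) = (w : V) := by
      rw [← Module.End.mul_apply, ← map_mul, inv_mul_cancel, map_one]; rfl
    rw [← h2, h1, map_zero]
    rfl
  have hu : ∀ g, u g ∈ J ζ TW (fun y => d y + b y g) := by
    intro g
    rw [mem_J]
    intro y
    apply Subtype.ext
    rw [hTWap]
    show ρ y (ρ g w) = ζ ^ (d y + b y g).val • ρ g w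
    have h1 : (y : P) * g = g * (y * ⁅(y : P)⁻¹, g⁻¹⁆) := by
      rw [commutatorElement_def]; group
    have h2 := mem_J.1 (show (w : V) ∈ J ζ (fun x => TZ x) c from w.2) ⟨⁅(y : P)⁻¹, g⁻¹⁆, hzc _ _⟩
    have h3 : c ⟨⁅(y : P)⁻¹, g⁻¹⁆, hzc _ _⟩ = b y g := by
      show b (y : P)⁻¹ g⁻¹ = b y g
      rw [bil, bir, neg_neg]
    rw [h3] at h2
    have h4 : ρ ⁅(y : P)⁻¹, g⁻¹⁆ w = ζ ^ (b y g).val • (w : V) := h2
    have h5 : ρ y w = ζ ^ (d y).val • (w : V) := congrArg Subtype.val (hw y)
    rw [← Module.End.mul_apply, ← map_mul, h1, map_mul, map_mul, Module.End.mul_apply, Module.End.mul_apply, h4,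
      map_smul, h5, map_smul, map_smul, smul_smul, zeta_add hζ, mul_comm]
  have hlin : LinearIndependent k (fun q : P ⧸ B => u q.out) := by
    have h1 := indep_J (n := n) hζ hnk hTWn hTWc
    have h2 : Function.Injective (fun (q : P ⧸ B) (y : B) => d y + b y q.out) := by
      intro q q' hqq
      have h3 : ∀ y ∈ B, b ((q.out)⁻¹ * q'.out) y = 0 := by
        intro y hy
        have h4 := add_left_cancel (congrFun hqq ⟨y, hy⟩)
        rw [bsymm y, bmr, bir]
        have h5 : b y q.out = b y q'.out := h4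
        rw [h5]; simp
      have h6 := hperp _ h3
      rw [← QuotientGroup.out_eq' q, ← QuotientGroup.out_eq' q']
      exact QuotientGroup.eq.2 h6
    exact iSupIndep.linearIndependent _ (h1.comp h2) (fun q => hu q.out) (fun q => hu0 _)
  have hidx : B.index ≤ finrank k V := by
    have : Fintype (P ⧸ B) := Fintype.ofFinite _
    have h1 := hlin.fintype_card_le_finrank
    rw [Subgroup.index, Nat.card_eq_fintype_card]
    exact h1.trans (Submodule.finrank_le W)
  -- counting
  have hcount : Nat.card B ^ 2 = Nat.card (center P) * Nat.card P := by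
    refine count b bml bmr _ B hZB hB0 hperp fun y => ⟨fun h => hRadle fun x => ?_, fun hy x => bzr y hy x⟩
    rw [bsymm x y, h, neg_zero]
  refine ⟨B.index, hidx, ?_, B, rfl⟩
  have h1 := B.card_mul_index
  have h2 := (center P).card_mul_index
  have hZpos : 0 < Nat.card (center P) := Nat.card_pos
  have hBpos : 0 < Nat.card B := Nat.card_pos
  have h3 : Nat.card (center P) * Nat.card P * B.index ^ 2 = Nat.card P ^ 2 := by
    rw [← hcount, ← mul_pow, h1]
  have hPpos : 0 < Nat.card P := Nat.card_pos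
  have h4 : Nat.card (center P) * B.index ^ 2 = Nat.card P := by
    apply Nat.eq_of_mul_eq_mul_left hPpos
    nlinarith [h3]
  rw [← h2] at h4
  exact (Nat.eq_of_mul_eq_mul_left hZpos h4).symm

end Cfsg.Agent.H190.E6
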