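import Cfsg.Agent.ChevalleyStructure.NPerm
import Cfsg.Prelude.Def_LieTwisted

/-!
# `²E₆(q)` is a subgroup of `E₆(q²)`; sections of subgroups
-/

set_option autoImplicit false

namespace Cfsg.Agent.H190.E6

open Cfsg.Lie Cfsg.Agent.ChevalleyStructure.Elts

theorem twisted_le {K : Type*} [Field K] (q : ℕ) : twistedE6 K q ≤ chevE6.group K := by
  have inList : InList chevE6 := by simp [InList]
  unfold twistedE6 ChevalleyDatum.genSubgroup
  rw [Subgroup.closure_le]
  rintro g ⟨w, -, hg⟩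
  rw [(eq_wordG_iff inList g w).2 hg]
  exact wordG_mem_group inList w

theorem section_of_le {G : Type*} [Group G] {A B : Subgroup G} (hAB : A ≤ B) (H : Subgroup ↥A) (N : Subgroup ↥H)
    [N.Normal] {Q : Type*} [Group Q] (h : Nonempty (↥H ⧸ N ≃* Q)) :
    ∃ (H' : Subgroup ↥B) (N' : Subgroup ↥H') (_ : N'.Normal), Nonempty (↥H' ⧸ N' ≃* Q) := by
  obtain ⟨e⟩ := h
  let f : ↥H ≃* ↥(H.map (Subgroup.inclusion hAB)) := H.equivMapOfInjective _ (Subgroup.inclusion_injective hAB)
  have hn : (N.map f.toMonoidHom).Normal := Subgroup.Normal.map inferInstance _ f.surjective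
  refine ⟨H.map (Subgroup.inclusion hAB), N.map f.toMonoidHom, hn, ⟨?_⟩⟩
  exact (QuotientGroup.congr N (N.map f.toMonoidHom) f rfl).symm.trans e

end Cfsg.Agent.H190.E6
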